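import Mathlib
import Cfsg.Prelude.Def_ConjugacyFunctors
import Cfsg.Prelude.Def_CaseTheorems
import Cfsg.Prelude.Def_Transfer
import Cfsg.Agent.Lib.Helper34.NPC
import Cfsg.Agent.Lib.Helper34.ConjAux
import Cfsg.Agent.Lib.Helper34.ThompsonPC
import Cfsg.Agent.Lib.Helper11.ZJ
import Cfsg.Agent.Lib.Helper11.Quadratic

/-!
# Thompson's normal `p`-complement criterion in functor form, relative to sections

`npc_of_secHyp`: for an isomorphism-invariant `p`-group functor `W`, if `N_G(W(S))` has a normal
`p`-complement and `W(T)` is normal in every section `Y` of `G` with `C_Y(O_p(Y)) ≤ O_p(Y)`,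
`Y/O_p(Y)` `p`-nilpotent and `T` a Sylow `p`-subgroup that is a maximal subgroup, then `G` has a
normal `p`-complement.
-/

set_option autoImplicit false

namespace Cfsg.Agent.Lib.Helper49

open Subgroup
open Cfsg.Agent.Lib.Helper34 Cfsg.Agent.Lib.Helper54 Cfsg.Agent.Lib.Helper11

universe u

section Functor

variable {p : ℕ} {W : ∀ (Q : Type u) [Group Q], Subgroup Q}

theorem indF_le {G : Type u} [Group G] (P : Subgroup G) : Cfsg.inducedFunctor W P ≤ P :=
  Subgroup.map_subtype_le _

theorem indF_map_of_injOn (hW : Cfsg.IsCharPFunctor.{u} p W) {G G' : Type u} [Group G] [Group G']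
    (f : G →* G') (P : Subgroup G) [Finite P] (hP : IsPGroup p P)
    (hf : Set.InjOn f (P : Set G)) :
    Cfsg.inducedFunctor W (P.map f) = (Cfsg.inducedFunctor W P).map f := by
  have hinj : Function.Injective (f.subgroupMap P) := by
    intro x y hxy
    have h1 : f (x : G) = f (y : G) := congrArg Subtype.val hxy
    exact Subtype.ext (hf x.2 y.2 h1)
  let e : ↥P ≃* ↥(P.map f) :=
    MulEquiv.ofBijective (f.subgroupMap P) ⟨hinj, f.subgroupMap_surjective P⟩
  have h1 : (W ↥P).map e.toMonoidHom = W ↥(P.map f) := hW.2 ↥P ↥(P.map f) hP e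
  have h2 : (P.map f).subtype.comp e.toMonoidHom = f.comp P.subtype := by
    ext x; rfl
  show (W ↥(P.map f)).map (P.map f).subtype = ((W ↥P).map P.subtype).map f
  rw [← h1, Subgroup.map_map, h2, Subgroup.map_map]

theorem normalizer_le_normalizer_indF (hW : Cfsg.IsCharPFunctor.{u} p W) {G : Type u} [Group G]
    (P : Subgroup G) [Finite P] (hP : IsPGroup p P) :
    normalizer (P : Set G) ≤ normalizer (Cfsg.inducedFunctor W P : Set G) := by
  intro g hg
  have h1 : P.map (MulAut.conj g).toMonoidHom = P := map_conj_eq_self_of_mem_normalizer hg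
  have h2 := indF_map_of_injOn hW (MulAut.conj g).toMonoidHom P hP
    ((MulAut.conj g).injective.injOn)
  rw [h1] at h2
  exact mem_normalizer_of_map_conj_eq_self h2.symm

theorem indF_ne_bot (hW : Cfsg.IsCharPFunctor.{u} p W) {G : Type u} [Group G] [Finite G]
    (P : Subgroup G) (hP : IsPGroup p P) (hne : P ≠ ⊥) : Cfsg.inducedFunctor W P ≠ ⊥ := by
  have h1 : W ↥P ≠ ⊥ := hW.1 ↥P hP ((Subgroup.nontrivial_iff_ne_bot P).mpr hne)
  intro h2
  exact h1 ((Subgroup.map_eq_bot_iff_of_injective _ P.subtype_injective).mp h2)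

end Functor

theorem pCore_map_mulEquiv {G G' : Type*} [Group G] [Group G'] (p : ℕ) (e : G ≃* G') :
    (Cfsg.pCore p G).map e.toMonoidHom = Cfsg.pCore p G' := by
  apply le_antisymm
  · exact le_pCore' ((pCore_normal' p G).map e.toMonoidHom e.surjective)
      ((pCore_isPGroup' p G).map _)
  · have h1 : (Cfsg.pCore p G').comap e.toMonoidHom ≤ Cfsg.pCore p G :=
      le_pCore' ((pCore_normal' p G').comap _)
        ((pCore_isPGroup' p G').comap_of_injective _ e.injective)
    have h2 := Subgroup.map_mono (f := e.toMonoidHom) h1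
    rwa [Subgroup.map_comap_eq_self_of_surjective e.surjective] at h2

section Sec

variable {p : ℕ} {W : ∀ (Q : Type u) [Group Q], Subgroup Q}

/-- The local condition on a group `Y` (in use: a section of the ambient group). -/
def SecGood (p : ℕ) (W : ∀ (Q : Type u) [Group Q], Subgroup Q) (Y : Type u) [Group Y] : Prop :=
  Subgroup.centralizer ((Cfsg.pCore p Y : Subgroup Y) : Set Y) ≤ Cfsg.pCore p Y →
  Cfsg.HasNormalPComplement p (Y ⧸ Cfsg.pCore p Y) →
  ∀ T : Sylow p Y, IsCoatom (T : Subgroup Y) →
    (Cfsg.inducedFunctor W (T : Subgroup Y)).Normal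

theorem SecGood.of_equiv [Fact p.Prime] (hW : Cfsg.IsCharPFunctor.{u} p W) {Y Y' : Type u}
    [Group Y] [Group Y'] [Finite Y] (e : Y ≃* Y') (h : SecGood p W Y') : SecGood p W Y := by
  intro hc hq T hT
  have : Finite Y' := Finite.of_equiv Y e.toEquiv
  have hes : Function.Surjective e.toMonoidHom := e.surjective
  have hei : Function.Injective e.toMonoidHom := e.injective
  have hcore : (Cfsg.pCore p Y).map e.toMonoidHom = Cfsg.pCore p Y' := pCore_map_mulEquiv p e
  have hc' : centralizer ((Cfsg.pCore p Y' : Subgroup Y') : Set Y') ≤ Cfsg.pCore p Y' := by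
    intro y hy
    rw [← hcore]
    refine ⟨e.symm y, hc ?_, by simp⟩
    rw [mem_centralizer_iff] at hy ⊢
    intro x hx
    have h1 := hy (e x) (hcore ▸ ⟨x, hx, rfl⟩)
    apply e.injective
    simpa using h1
  have hq' : Cfsg.HasNormalPComplement p (Y' ⧸ Cfsg.pCore p Y') := by
    have hle : Cfsg.pCore p Y ≤ (Cfsg.pCore p Y').comap e.toMonoidHom := by
      rw [← Subgroup.map_le_iff_le_comap, hcore]
    refine hnpc_of_surjective (QuotientGroup.map _ _ e.toMonoidHom hle) ?_ hq
    intro y
    obtain ⟨y', rfl⟩ := QuotientGroup.mk_surjective y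
    refine ⟨QuotientGroup.mk (e.symm y'), ?_⟩
    rw [QuotientGroup.map_mk]
    simp
  have hT' : IsCoatom ((T.mapSurjective hes : Sylow p Y') : Subgroup Y') := by
    rw [Sylow.coe_mapSurjective]
    have h1 := (e.mapSubgroup.isCoatom_iff (T : Subgroup Y)).mpr hT
    rwa [MulEquiv.coe_mapSubgroup] at h1
  have h1 := h hc' hq' (T.mapSurjective hes) hT'
  rw [Sylow.coe_mapSurjective, indF_map_of_injOn hW e.toMonoidHom _ T.2 hei.injOn] at h1
  have h2 := h1.comap e.toMonoidHom
  rwa [Subgroup.comap_map_eq_self_of_injective hei] at h2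

/-- The local condition holds in all sections (quotients of subgroups) of `X`. -/
def SecHyp (p : ℕ) (W : ∀ (Q : Type u) [Group Q], Subgroup Q) (X : Type u) [Group X] : Prop :=
  ∀ (Y : Type u) [Group Y] (H : Subgroup X) (f : ↥H →* Y), Function.Surjective f → SecGood p W Y

theorem SecHyp.sub {X : Type u} [Group X] (h : SecHyp p W X) (M : Subgroup X) :
    SecHyp p W ↥M := by
  intro Y _ H' f hf
  exact h Y (H'.map M.subtype)
    (f.comp (H'.equivMapOfInjective M.subtype M.subtype_injective).symm.toMonoidHom)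
    (hf.comp (H'.equivMapOfInjective M.subtype M.subtype_injective).symm.surjective)

theorem SecHyp.quot {X : Type u} [Group X] (h : SecHyp p W X) (D : Subgroup X) [D.Normal] :
    SecHyp p W (X ⧸ D) := by
  intro Y _ H' f hf
  exact h Y (H'.comap (QuotientGroup.mk' D)) (f.comp ((QuotientGroup.mk' D).subgroupComap H'))
    (hf.comp ((QuotientGroup.mk' D).subgroupComap_surjective_of_surjective H'
      (QuotientGroup.mk'_surjective D)))

theorem SecHyp.self {X : Type u} [Group X] (h : SecHyp p W X) : SecGood p W X :=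
  h X ⊤ (Subgroup.topEquiv (G := X)).toMonoidHom
    (show Function.Surjective (Subgroup.topEquiv (G := X)).toMonoidHom from
      (Subgroup.topEquiv (G := X)).surjective)

end Sec

end Cfsg.Agent.Lib.Helper49
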