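import Mathlib
import Cfsg.Agent.Lib.Helper49.SecFunctor

/-!
# The section-relative normal `p`-complement reduction
-/

set_option autoImplicit false

namespace Cfsg.Agent.Lib.Helper49

open Subgroup
open Cfsg.Agent.Lib.Helper34 Cfsg.Agent.Lib.Helper54 Cfsg.Agent.Lib.Helper11

universe u

/-- Thompson's normal `p`-complement criterion in functor form: induction over groups whose
sections satisfy the local condition. -/
theorem npc_of_secHyp {p : ℕ} [Fact p.Prime] {W : ∀ (Q : Type u) [Group Q], Subgroup Q}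
    (hW : Cfsg.IsCharPFunctor.{u} p W) :
    ∀ (n : ℕ) (G : Type u) [Group G] [Finite G], Nat.card G = n → SecHyp p W G →
      ∀ P : Sylow p G,
      IFC p (normalizer (Cfsg.inducedFunctor W (P : Subgroup G) : Set G)) →
      Cfsg.HasNormalPComplement p G := by
  intro n
  induction n using Nat.strong_induction_on with
  | _ n ih =>
  intro G _ _ hn hsec P hyp
  by_contra hnot
  have hp : p.Prime := Fact.out
  have hG0 : Nat.card G ≠ 0 := Nat.card_pos.ne'
  -- proper subgroups
  have ihsub : ∀ M : Subgroup G, M ≠ ⊤ → ∀ R : Sylow p ↥M,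
      IFC p (normalizer
        (Cfsg.inducedFunctor W ((R : Subgroup ↥M).map M.subtype) : Set G)) → IFC p M := by
    intro M hM R hR
    rw [ifc_iff_hnpc]
    have hlt : Nat.card M < n := by
      rw [← hn, ← Subgroup.card_top (G := G)]
      exact card_lt_card_of_lt (lt_top_iff_ne_top.mpr hM)
    apply ih _ hlt ↥M rfl (hsec.sub M) R
    apply IFC.of_map_of_injective M.subtype M.subtype_injective
    refine hR.mono ?_
    rw [indF_map_of_injOn hW M.subtype _ R.2 M.subtype_injective.injOn]
    exact le_normalizer_map M.subtype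
  have hquotlt : ∀ (N : Subgroup G) [N.Normal], N ≠ ⊥ → Nat.card (G ⧸ N) < n := by
    intro N _ hN
    rw [← hn, Subgroup.card_eq_card_quotient_mul_card_subgroup N]
    have h1 : 1 < Nat.card N := by
      by_contra hle
      have h2 : Nat.card N = 1 := by
        have := Nat.card_pos (α := N)
        omega
      exact hN (Subgroup.eq_bot_of_card_eq N h2)
    have h3 : 0 < Nat.card (G ⧸ N) := Nat.card_pos
    nlinarith
  -- `O_{p'}(G) = 1`
  have hpprime : ∀ D : Subgroup G, D.Normal → (Nat.card D).Coprime p → D = ⊥ := by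
    intro D hDn hD
    by_contra hne
    apply hnot
    apply hnpc_of_quotient_coprime D hD
    have hsurj := QuotientGroup.mk'_surjective D
    apply ih _ (hquotlt D hne) (G ⧸ D) rfl (hsec.quot D) (P.mapSurjective hsurj)
    have hinj := injOn_mk_of_coprime (P : Subgroup G) D P.2 hD
    rw [Sylow.coe_mapSurjective, indF_map_of_injOn hW _ _ P.2 hinj]
    exact (hyp.map (QuotientGroup.mk' D)).mono
      (normalizer_map_mk_le _ D (P.2.to_le (indF_le _)) hD)
  have hnorm : normalizer (Cfsg.inducedFunctor W (P : Subgroup G) : Set G) ≠ ⊤ := by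
    intro h
    rw [h] at hyp
    exact hnot (ifc_top_iff.mp hyp)
  -- a maximal bad subgroup
  obtain ⟨U, hUp, hUne, hUbad, hM1, hM2⟩ := exists_max_bad hnot
  have hNtop : normalizer (U : Set G) = ⊤ := by
    by_contra hNtop
    apply hUbad
    obtain ⟨R⟩ : Nonempty (Sylow p ↥(normalizer (U : Set G))) := inferInstance
    apply ihsub _ hNtop R
    obtain ⟨R', hR'⟩ : ∃ R' : Subgroup G,
        R' = (R : Subgroup ↥(normalizer (U : Set G))).map (normalizer (U : Set G)).subtype :=
      ⟨_, rfl⟩
    rw [← hR']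
    have hR'p : IsPGroup p R' := hR' ▸ R.2.map _
    have hcardR' : Nat.card R' = p ^ (Nat.card ↥(normalizer (U : Set G))).factorization p := by
      rw [hR', Subgroup.card_map_of_injective (Subgroup.subtype_injective _)]
      exact R.card_eq_multiplicity
    have hUR' : U ≤ R' := by
      have hUn' : (U.subgroupOf (normalizer (U : Set G))).Normal := Subgroup.normal_in_normalizer
      have hUp' : IsPGroup p ↥(U.subgroupOf (normalizer (U : Set G))) := hUp.comap_subtype
      have h1 : U.subgroupOf (normalizer (U : Set G)) ≤ R := hUp'.le_sylow_of_normal R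
      intro u hu
      rw [hR']
      exact ⟨⟨u, le_normalizer hu⟩, h1 (mem_subgroupOf.mpr hu), rfl⟩
    have hR'ne : R' ≠ ⊥ := fun h => hUne (le_bot_iff.mp (h ▸ hUR'))
    have hXp : IsPGroup p (Cfsg.inducedFunctor W R') := hR'p.to_le (indF_le R')
    have hXne : Cfsg.inducedFunctor W R' ≠ ⊥ := indF_ne_bot hW R' hR'p hR'ne
    by_cases hfull : (Nat.card ↥(normalizer (U : Set G))).factorization p =
        (Nat.card G).factorization p
    · rw [hfull] at hcardR'
      obtain ⟨g, hg⟩ := MulAction.exists_smul_eq G P (Sylow.ofCard R' hcardR')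
      have hcoe : R' = (P : Subgroup G).map (MulAut.conj g).toMonoidHom := by
        have h1 := congrArg (fun Q : Sylow p G => (Q : Subgroup G)) hg
        simp only [Sylow.coe_ofCard] at h1
        rw [← h1]
        rfl
      rw [hcoe, indF_map_of_injOn hW _ _ P.2 ((MulAut.conj g).injective.injOn),
        normalizer_map_conj]
      exact hyp.conj g
    · have hle0 : (Nat.card ↥(normalizer (U : Set G))).factorization p ≤
          (Nat.card G).factorization p :=
        (hp.pow_dvd_iff_le_factorization hG0).mp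
          ((Nat.ordProj_dvd _ _).trans (Subgroup.card_subgroup_dvd_card _))
      have hlt2 := lt_of_le_of_ne hle0 hfull
      have hdvd1 : p ^ ((Nat.card ↥(normalizer (U : Set G))).factorization p + 1) ∣ Nat.card G :=
        (hp.pow_dvd_iff_le_factorization hG0).mpr hlt2
      have hdvd2 := Sylow.prime_pow_dvd_card_normalizer hdvd1 hcardR'
      have hdvd3 : p ^ ((Nat.card ↥(normalizer (U : Set G))).factorization p + 1) ∣
          Nat.card ↥(normalizer (Cfsg.inducedFunctor W R' : Set G)) :=
        hdvd2.trans (Subgroup.card_dvd_of_le (normalizer_le_normalizer_indF hW R' hR'p))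
      apply hM1 _ hXp hXne
      exact Nat.lt_of_succ_le ((hp.pow_dvd_iff_le_factorization Nat.card_pos.ne').mp hdvd3)
  have hUn : U.Normal := Subgroup.normalizer_eq_top_iff.mp hNtop
  have hN2 : ∀ K : Subgroup G, IsPGroup p K → U < K →
      (P : Subgroup G) ≤ normalizer (K : Set G) → IFC p (normalizer (K : Set G)) := by
    intro K hK hUK hPK
    have hKne : K ≠ ⊥ := by
      rintro rfl
      exact hUne (le_bot_iff.mp hUK.le)
    refine hM2 K hK hKne ?_ (card_lt_card_of_lt hUK)
    rw [hNtop, Subgroup.card_top]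
    apply le_antisymm
    · have h1 : p ^ (Nat.card G).factorization p ∣ Nat.card (normalizer (K : Set G)) := by
        rw [← P.card_eq_multiplicity]; exact Subgroup.card_dvd_of_le hPK
      exact (hp.pow_dvd_iff_le_factorization Nat.card_pos.ne').mp h1
    · have h2 : Nat.card (normalizer (K : Set G)) ∣ Nat.card G := Subgroup.card_subgroup_dvd_card _
      exact (Nat.factorization_le_iff_dvd Nat.card_pos.ne' Nat.card_pos.ne').mpr h2 p
  have hN1 : ∀ R : Subgroup G, R.Normal → IsPGroup p R → R ≤ U := by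
    intro R hRn hRp
    by_contra hRU
    have hsup : IsPGroup p (R ⊔ U : Subgroup G) := IsPGroup.to_sup_of_normal_right hRp hUp
    have hlt : U < R ⊔ U := lt_of_le_of_ne le_sup_right (fun heq => hRU (heq ▸ le_sup_left))
    have hn : (R ⊔ U).Normal := inferInstance
    have h1 := hN2 (R ⊔ U) hsup hlt (by rw [Subgroup.normalizer_eq_top_iff.mpr hn]; exact le_top)
    rw [Subgroup.normalizer_eq_top_iff.mpr hn] at h1
    exact hnot (ifc_top_iff.mp h1)
  have hUeq : U = Cfsg.pCore p G :=
    le_antisymm (le_pCore' hUn hUp) (hN1 _ (pCore_normal' p G) (pCore_isPGroup' p G))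
  subst hUeq
  have hUP : Cfsg.pCore p G ≤ (P : Subgroup G) := hUp.le_sylow_of_normal P
  have hsurj := QuotientGroup.mk'_surjective (Cfsg.pCore p G)
  have hker : ∀ u ∈ Cfsg.pCore p G, (QuotientGroup.mk' (Cfsg.pCore p G)) u = 1 :=
    fun u hu => (QuotientGroup.eq_one_iff u).mpr hu
  -- `G/U` has a normal `p`-complement
  have hquot : Cfsg.HasNormalPComplement p (G ⧸ Cfsg.pCore p G) := by
    let Pb : Sylow p (G ⧸ Cfsg.pCore p G) := P.mapSurjective hsurj
    have hPb : (Pb : Subgroup (G ⧸ Cfsg.pCore p G)) =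
        (P : Subgroup G).map (QuotientGroup.mk' (Cfsg.pCore p G)) :=
      Sylow.coe_mapSurjective hsurj P
    apply ih _ (hquotlt (Cfsg.pCore p G) hUne) (G ⧸ Cfsg.pCore p G) rfl
      (hsec.quot (Cfsg.pCore p G)) Pb
    have hbot : (Pb : Subgroup (G ⧸ Cfsg.pCore p G)) ≠ ⊥ := by
      intro hbot
      apply hnorm
      have hPU : (P : Subgroup G) = Cfsg.pCore p G := by
        apply le_antisymm _ hUP
        intro x hx
        have h1 : (QuotientGroup.mk' (Cfsg.pCore p G)) x ∈ (Pb : Subgroup (G ⧸ Cfsg.pCore p G)) :=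
          hPb ▸ ⟨x, hx, rfl⟩
        rw [hbot, Subgroup.mem_bot] at h1
        exact (QuotientGroup.eq_one_iff x).mp h1
      rw [eq_top_iff]
      refine le_trans ?_ (normalizer_le_normalizer_indF hW _ P.2)
      rw [hPU, Subgroup.normalizer_eq_top_iff.mpr hUn]
    have hPbp : IsPGroup p (Pb : Subgroup (G ⧸ Cfsg.pCore p G)) := Pb.2
    obtain ⟨Xb, hXb⟩ : ∃ Xb : Subgroup (G ⧸ Cfsg.pCore p G),
        Xb = Cfsg.inducedFunctor W (Pb : Subgroup (G ⧸ Cfsg.pCore p G)) := ⟨_, rfl⟩
    rw [← hXb]
    have hXle : Xb ≤ Pb := hXb ▸ indF_le _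
    have hXne : Xb ≠ ⊥ := hXb ▸ indF_ne_bot hW _ hPbp hbot
    have hXnorm : (Pb : Subgroup (G ⧸ Cfsg.pCore p G)) ≤
        normalizer (Xb : Set (G ⧸ Cfsg.pCore p G)) :=
      hXb ▸ le_normalizer.trans (normalizer_le_normalizer_indF hW _ hPbp)
    have hUK : Cfsg.pCore p G ≤ Xb.comap (QuotientGroup.mk' (Cfsg.pCore p G)) := by
      intro u hu
      show (QuotientGroup.mk' (Cfsg.pCore p G)) u ∈ Xb
      rw [hker u hu]; exact Xb.one_mem
    have hKp : IsPGroup p (Xb.comap (QuotientGroup.mk' (Cfsg.pCore p G))) := by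
      apply IsPGroup.comap_of_ker_isPGroup (hPbp.to_le hXle)
      rw [QuotientGroup.ker_mk']; exact hUp
    have hlt : Cfsg.pCore p G < Xb.comap (QuotientGroup.mk' (Cfsg.pCore p G)) := by
      refine lt_of_le_of_ne hUK ?_
      intro heq
      obtain ⟨⟨xv, hxv⟩, hx1⟩ := (Subgroup.ne_bot_iff_exists_ne_one).mp hXne
      obtain ⟨g, rfl⟩ := hsurj xv
      have h2 : g ∈ Xb.comap (QuotientGroup.mk' (Cfsg.pCore p G)) := hxv
      rw [← heq] at h2
      apply hx1
      apply Subtype.ext
      exact (QuotientGroup.eq_one_iff g).mpr h2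
    have hPK : (P : Subgroup G) ≤
        normalizer ((Xb.comap (QuotientGroup.mk' (Cfsg.pCore p G)) : Subgroup G) : Set G) := by
      rw [← Subgroup.comap_normalizer_eq_of_surjective Xb hsurj]
      intro g hg
      exact hXnorm (hPb ▸ ⟨g, hg, rfl⟩)
    have h1 := (hN2 _ hKp hlt hPK).map (QuotientGroup.mk' (Cfsg.pCore p G))
    rw [← Subgroup.comap_normalizer_eq_of_surjective Xb hsurj,
      Subgroup.map_comap_eq_self_of_surjective hsurj] at h1
    exact h1
  obtain ⟨Lb, hLb⟩ := hasNormalPComplement_iff.mp hquot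
  have hLbn : Lb.Normal := hLb.1
  -- normal subgroups with the Frobenius condition lie in `U`
  have hnormal_ifc : ∀ C : Subgroup G, C.Normal → IFC p C → C ≤ Cfsg.pCore p G := by
    intro C hC hifc
    obtain ⟨D, hDn, hDC, hDcop, hDmem⟩ := exists_normal_pPrime_of_ifc C hifc
    have hDbot : D = ⊥ := hpprime D hDn hDcop
    apply hN1 C hC
    apply isPGroup_subgroup_of_forall_coprime_eq_one
    intro x hx hxp
    have h1 := hDmem x hx hxp
    rw [hDbot] at h1
    exact Subgroup.mem_bot.mp h1
  -- `C_G(U) ≤ U`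
  have hcU : centralizer ((Cfsg.pCore p G : Subgroup G) : Set G) ≤ Cfsg.pCore p G := by
    have hM : IFC p (centralizer ((Cfsg.pCore p G : Subgroup G) : Set G) ⊓
        Lb.comap (QuotientGroup.mk' (Cfsg.pCore p G))) := by
      intro Q hQM hQ g hg _ _
      have hgC : g ∈ centralizer ((Cfsg.pCore p G : Subgroup G) : Set G) :=
        (Subgroup.mem_inf.mp hg).1
      have hQU : Q ≤ Cfsg.pCore p G := by
        intro x hx
        have hxL : (QuotientGroup.mk' (Cfsg.pCore p G)) x ∈ Lb := (Subgroup.mem_inf.mp (hQM hx)).2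
        have h1 : (orderOf ((QuotientGroup.mk' (Cfsg.pCore p G)) x)).Coprime p :=
          hLb.coprime_of_mem hxL
        obtain ⟨k, hk⟩ := hQ ⟨x, hx⟩
        have hk' : x ^ p ^ k = 1 := by
          have := congrArg Subtype.val hk
          simpa using this
        have h2 : ((QuotientGroup.mk' (Cfsg.pCore p G)) x) ^ p ^ k = 1 := by
          rw [← map_pow, hk', map_one]
        have h3 := eq_one_of_pow_eq_one_of_coprime h2 h1
        exact (QuotientGroup.eq_one_iff x).mp h3
      exact Subgroup.centralizer_le (SetLike.coe_subset_coe.mpr hQU) hgC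
    have hMn : (centralizer ((Cfsg.pCore p G : Subgroup G) : Set G) ⊓
        Lb.comap (QuotientGroup.mk' (Cfsg.pCore p G))).Normal := inferInstance
    have hMU := hnormal_ifc _ hMn hM
    apply hN1 _ inferInstance
    apply isPGroup_subgroup_of_forall_coprime_eq_one
    intro x hx hxp
    have h1 : (orderOf ((QuotientGroup.mk' (Cfsg.pCore p G)) x)).Coprime p :=
      Nat.Coprime.coprime_dvd_left (orderOf_map_dvd _ x) hxp
    have h2 : (QuotientGroup.mk' (Cfsg.pCore p G)) x ∈ Lb := hLb.mem_of_coprime h1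
    have h3 : x ∈ Cfsg.pCore p G := hMU (Subgroup.mem_inf.mpr ⟨hx, h2⟩)
    exact eq_one_of_mem_pgroup_of_coprime hUp h3 hxp
  -- `P` is a maximal subgroup
  have hcoatom : IsCoatom (P : Subgroup G) := by
    refine ⟨?_, ?_⟩
    · intro hPtop
      apply hnorm
      rw [eq_top_iff]
      refine le_trans ?_ (normalizer_le_normalizer_indF hW _ P.2)
      rw [hPtop]
      exact le_normalizer
    · intro M hPM
      by_contra hMtop
      have hifc : IFC p M := by
        apply ihsub M hMtop (P.subtype hPM.le)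
        have hmap : ((P.subtype hPM.le : Sylow p ↥M) : Subgroup ↥M).map M.subtype =
            (P : Subgroup G) := by
          rw [Sylow.coe_subtype, Subgroup.map_subgroupOf_eq_of_le hPM.le]
        rw [hmap]; exact hyp
      have hUM : Cfsg.pCore p G ≤ M := hUP.trans hPM.le
      have hMp : IsPGroup p M := by
        apply isPGroup_subgroup_of_forall_coprime_eq_one
        intro y hy hyp'
        have h1 : y ∈ centralizer ((Cfsg.pCore p G : Subgroup G) : Set G) :=
          hifc _ hUM hUp y hy (by rw [hNtop]; exact mem_top y) hyp'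
        exact eq_one_of_mem_pgroup_of_coprime hUp (hcU h1) hyp'
      exact hPM.ne (P.is_maximal' hMp hPM.le).symm
  -- endgame
  have hfin := hsec.self hcU hquot P hcoatom
  exact hnorm (Subgroup.normalizer_eq_top_iff.mpr hfin)

end Cfsg.Agent.Lib.Helper49
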