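import Mathlib
import Cfsg.Agent.Lib.Helper49.CharP2
import Cfsg.Agent.Lib.Helper22.Conj

set_option autoImplicit false

namespace Cfsg.Agent.Lib.Helper49

open Cfsg.Agent.Lib.Helper31

/-- If `F*(X) = O_p(X)` then `C_X(O_p(X)) ≤ O_p(X)` (Bender). -/
theorem charp_of_fstar_eq {X : Type*} [Group X] [Finite X] {p : ℕ}
    (h : Cfsg.generalizedFittingSubgroup X = Cfsg.pCore p X) :
    Subgroup.centralizer (Cfsg.pCore p X : Set X) ≤ Cfsg.pCore p X := by
  have h2 := Cfsg.Agent.Lib.Helper30.centralizer_generalizedFittingSubgroup_le X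
  rwa [h] at h2

/-- Characteristic `p` of the centralizer of an element is invariant under conjugation. -/
theorem charp_centralizer_conj {G : Type*} [Group G] {p : ℕ} [Fact p.Prime] (z g : G)
    (h : Subgroup.centralizer (Cfsg.pCore p ↥(Subgroup.centralizer ({z} : Set G)) :
      Set ↥(Subgroup.centralizer ({z} : Set G))) ≤ Cfsg.pCore p ↥(Subgroup.centralizer ({z} : Set G))) :
    Subgroup.centralizer (Cfsg.pCore p ↥(Subgroup.centralizer ({g * z * g⁻¹} : Set G)) :
      Set ↥(Subgroup.centralizer ({g * z * g⁻¹} : Set G))) ≤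
        Cfsg.pCore p ↥(Subgroup.centralizer ({g * z * g⁻¹} : Set G)) :=
  charp_of_equiv
    (((Subgroup.centralizer ({z} : Set G)).equivMapOfInjective (MulAut.conj g).toMonoidHom
      (MulAut.conj g).injective).trans
      (MulEquiv.subgroupCongr (Cfsg.Agent.Lib.Helper22.map_conj_centralizer_singleton z g))) h

/-- The centralizer of `⟨z⟩` is the centralizer of `z`. -/
theorem centralizer_zpowers_eq {G : Type*} [Group G] (z : G) :
    Subgroup.centralizer ((Subgroup.zpowers z : Subgroup G) : Set G) =
      Subgroup.centralizer ({z} : Set G) := by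
  rw [Subgroup.zpowers_eq_closure, Subgroup.centralizer_closure]

/-- If `C_G(z)` has characteristic `p` for some `z` in the `p`-subgroup `U`, then `N_G(U)` has
characteristic `p`. -/
theorem charp_normalizer_of_centralizer_elt {G : Type*} [Group G] [Finite G] {p : ℕ}
    [Fact p.Prime] (U : Subgroup G) (hU : IsPGroup p U) (z : G) (hz : z ∈ U)
    (h : Subgroup.centralizer (Cfsg.pCore p ↥(Subgroup.centralizer ({z} : Set G)) :
      Set ↥(Subgroup.centralizer ({z} : Set G))) ≤ Cfsg.pCore p ↥(Subgroup.centralizer ({z} : Set G))) :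
    Subgroup.centralizer (Cfsg.pCore p ↥(Subgroup.normalizer (U : Set G)) :
      Set ↥(Subgroup.normalizer (U : Set G))) ≤ Cfsg.pCore p ↥(Subgroup.normalizer (U : Set G)) := by
  refine charp_normalizer_of_centralizer_le (Subgroup.centralizer ({z} : Set G))
    (Subgroup.zpowers z) U h ?_ ?_ ?_ hU
  · rw [centralizer_zpowers_eq]
  · exact Subgroup.zpowers_le.mpr hz
  · apply Subgroup.zpowers_le.mpr
    rw [Subgroup.mem_centralizer_singleton_iff]

/-- If `N_G(⟨z⟩)` has characteristic `p`, so has `C_G(z)`. -/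
theorem charp_centralizer_elt_of_normalizer {G : Type*} [Group G] [Finite G] {p : ℕ}
    [Fact p.Prime] (z : G)
    (hN : Subgroup.centralizer
      (Cfsg.pCore p ↥(Subgroup.normalizer ((Subgroup.zpowers z : Subgroup G) : Set G)) :
        Set ↥(Subgroup.normalizer ((Subgroup.zpowers z : Subgroup G) : Set G))) ≤
      Cfsg.pCore p ↥(Subgroup.normalizer ((Subgroup.zpowers z : Subgroup G) : Set G))) :
    Subgroup.centralizer (Cfsg.pCore p ↥(Subgroup.centralizer ({z} : Set G)) :
      Set ↥(Subgroup.centralizer ({z} : Set G))) ≤ Cfsg.pCore p ↥(Subgroup.centralizer ({z} : Set G)) :=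
  charp_of_equiv (MulEquiv.subgroupCongr (centralizer_zpowers_eq z))
    (charp_centralizer_of_normalizer (Subgroup.zpowers z) hN)

end Cfsg.Agent.Lib.Helper49
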