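import Mathlib
import Cfsg.Prelude.Def_IsolatedElements
import Cfsg.Prelude.Def_Transfer

set_option autoImplicit false
open scoped Pointwise

namespace Cfsg.Agent.Lib.Helper49

variable {G : Type*} [Group G]

/-- An isolated element of a finite `p`-subgroup `R` is central in `R`. -/
theorem isolated_commute_of_mem_pgroup [Finite G] {p : ℕ} [Fact p.Prime] {x : G}
    (hiso : Cfsg.IsIsolated x) (R : Subgroup G) (hR : IsPGroup p R) (hxR : x ∈ R) :
    ∀ u ∈ R, Commute x u := by
  classical
  have hnil : Group.IsNilpotent R := hR.isNilpotent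
  have hnc : NormalizerCondition R := Group.normalizerCondition_of_isNilpotent
  set x' : R := ⟨x, hxR⟩ with hx'
  set C : Subgroup R := Subgroup.centralizer ({x'} : Set R) with hC
  have hCtop : C = ⊤ := by
    by_contra hne
    have hlt : C < ⊤ := lt_top_iff_ne_top.mpr hne
    have hlt2 := hnc C hlt
    obtain ⟨u, huN, huC⟩ := SetLike.exists_of_lt hlt2
    have hx'C : x' ∈ C := by
      rw [hC, Subgroup.mem_centralizer_iff]
      intro h hh
      rw [Set.mem_singleton_iff] at hh
      rw [hh]
    have h1 : u * x' * u⁻¹ ∈ C := (Subgroup.mem_normalizer_iff.mp huN x').mp hx'C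
    have h2 : x' * (u * x' * u⁻¹) = (u * x' * u⁻¹) * x' :=
      Subgroup.mem_centralizer_iff.mp h1 x' (Set.mem_singleton x')
    have h3 : Commute x ((u : G) * x * (u : G)⁻¹) := by
      have := congrArg Subtype.val h2
      simp only [Subgroup.coe_mul, Subgroup.coe_inv, hx'] at this
      exact this
    have h4 := hiso (u : G) h3
    apply huC
    rw [hC, Subgroup.mem_centralizer_iff]
    intro h hh
    rw [Set.mem_singleton_iff] at hh
    rw [hh]
    apply Subtype.ext
    simp only [Subgroup.coe_mul, hx']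
    calc x * (u : G) = ((u : G) * x * (u : G)⁻¹) * (u : G) := by rw [h4]
      _ = (u : G) * x := by group
  intro u hu
  have h1 : (⟨u, hu⟩ : R) ∈ C := by rw [hCtop]; trivial
  have h2 := Subgroup.mem_centralizer_iff.mp h1 x' (Set.mem_singleton x')
  have h3 := congrArg Subtype.val h2
  simp only [Subgroup.coe_mul, hx'] at h3
  exact h3

/-- A conjugate of an isolated element lying in a `p`-subgroup together with it equals it. -/
theorem isolated_conj_eq [Finite G] {p : ℕ} [Fact p.Prime] {x : G}
    (hiso : Cfsg.IsIsolated x) (R : Subgroup G) (hR : IsPGroup p R) (hxR : x ∈ R) (g : G)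
    (hg : g * x * g⁻¹ ∈ R) : g * x * g⁻¹ = x :=
  hiso g (isolated_commute_of_mem_pgroup hiso R hR hxR _ hg)

/-- Sylow conjugacy inside a subgroup `H`: a conjugate of the isolated `p`-element `x` lying in `H`
together with `x` is conjugate to `x` by an element of `H`, hence equal to `x` after that. -/
theorem isolated_conj_in_subgroup [Finite G] {p : ℕ} [Fact p.Prime] {x : G}
    (hx : ∃ k : ℕ, orderOf x = p ^ k) (hiso : Cfsg.IsIsolated x) (H : Subgroup G) (hxH : x ∈ H)
    (g : G) (hgH : g * x * g⁻¹ ∈ H) : ∃ h ∈ H, (h * g) * x * (h * g)⁻¹ = x := by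
  classical
  obtain ⟨k, hk⟩ := hx
  set x' : H := ⟨x, hxH⟩ with hx'
  set y' : H := ⟨g * x * g⁻¹, hgH⟩ with hy'
  have hox : orderOf x' = p ^ k := by rw [← hk, hx', Subgroup.orderOf_mk]
  have hoy : orderOf y' = p ^ k := by
    rw [hy', Subgroup.orderOf_mk]
    have := orderOf_injective (MulAut.conj g).toMonoidHom (MulAut.conj g).injective x
    simp only [MulEquiv.coe_toMonoidHom, MulAut.conj_apply] at this
    rw [this, hk]
  have hpx : IsPGroup p (Subgroup.zpowers x') := IsPGroup.of_card (n := k) (by rw [Nat.card_zpowers, hox])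
  have hpy : IsPGroup p (Subgroup.zpowers y') := IsPGroup.of_card (n := k) (by rw [Nat.card_zpowers, hoy])
  obtain ⟨P₁, hP₁⟩ := hpx.exists_le_sylow
  obtain ⟨P₂, hP₂⟩ := hpy.exists_le_sylow
  obtain ⟨h, hh⟩ := MulAction.exists_smul_eq H P₂ P₁
  have hy1 : h * y' * h⁻¹ ∈ (P₁ : Subgroup H) := by
    have h1 : y' ∈ (P₂ : Subgroup H) := hP₂ (Subgroup.mem_zpowers y')
    have h2 : MulAut.conj h • y' ∈ MulAut.conj h • (P₂ : Subgroup H) :=
      Subgroup.smul_mem_pointwise_smul _ _ _ h1
    have h3 : (MulAut.conj h • (P₂ : Subgroup H)) = ((h • P₂ : Sylow p H) : Subgroup H) := rfl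
    rw [h3, hh] at h2
    simpa [MulAut.smul_def] using h2
  have hx1 : x' ∈ (P₁ : Subgroup H) := hP₁ (Subgroup.mem_zpowers x')
  refine ⟨h, h.2, ?_⟩
  have hRp : IsPGroup p ((P₁ : Subgroup H).map H.subtype) := P₁.isPGroup'.map _
  have hxR : x ∈ (P₁ : Subgroup H).map H.subtype := ⟨x', hx1, rfl⟩
  have hyR : ((h : G) * g) * x * ((h : G) * g)⁻¹ ∈ (P₁ : Subgroup H).map H.subtype := by
    refine ⟨h * y' * h⁻¹, hy1, ?_⟩
    simp only [Subgroup.coe_subtype, Subgroup.coe_mul, Subgroup.coe_inv, hy']
    group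
  exact isolated_conj_eq hiso _ hRp hxR _ hyR

/-- Conjugation preserves the order. -/
theorem orderOf_conj' (g x : G) : orderOf (g * x * g⁻¹) = orderOf x := by
  have := orderOf_injective (MulAut.conj g).toMonoidHom (MulAut.conj g).injective x
  simpa using this

end Cfsg.Agent.Lib.Helper49
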