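import Mathlib
import Cfsg.Prelude.Def_Solvable
import Cfsg.Prelude.Def_LocalEven
import Cfsg.Agent.Lib.Helper11.ZJ
import Cfsg.Agent.Lib.Helper11.Quadratic
import Cfsg.Agent.Lib.Helper34.NPC

/-!
# Normalizer-form `p`-stability and critical subgroups

Pure group theory used for the `p`-stable half of Glauberman's K-infinity theorem:
* `exists_stab_subgroup`: the subgroup of `N_G(P)` lying over `O_p(N_G(P)/C_G(P))`;
* `Crit p A`: the properties of a critical subgroup of `O_p(G)` in a constrained group that are used;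
* `quad_mem_pCore`, `h1_le_pCore`: quadratic action on `A` (resp. on `Z(A)` and `A/Z(A)`) forces
  membership in `O_p(G)`.
-/

set_option autoImplicit false
open scoped commutatorElement

namespace Cfsg.Agent.Lib.Helper49

open Subgroup

universe u

section KStab

variable {G : Type u} [Group G] {p : ℕ}

/-- The subgroup of `N_G(P)` over `O_p(N_G(P)/C_G(P))`. -/
theorem exists_stab_subgroup (hst : Cfsg.IsNormalizerPStable p G) (P : Subgroup G)
    (hP : IsPGroup p P) :
    ∃ E : Subgroup G, E ≤ normalizer (P : Set G) ∧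
      (∀ n ∈ normalizer (P : Set G), ∀ x ∈ E, n * x * n⁻¹ ∈ E) ∧
      (∀ x ∈ E, ∃ k : ℕ, x ^ p ^ k ∈ centralizer (P : Set G)) ∧
      (∀ g ∈ normalizer (P : Set G), ⁅⁅P, zpowers g⁆, zpowers g⁆ = ⊥ → g ∈ E) := by
  set N := normalizer (P : Set G) with hN
  set C := (centralizer (P : Set G)).subgroupOf N with hC
  refine ⟨((Cfsg.pCore p (↥N ⧸ C)).comap (QuotientGroup.mk' C)).map N.subtype,
    map_subtype_le _, ?_, ?_, ?_⟩
  · rintro n hn _ ⟨y, hy, rfl⟩
    refine ⟨⟨n, hn⟩ * y * ⟨n, hn⟩⁻¹, ?_, rfl⟩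
    rw [SetLike.mem_coe, mem_comap] at hy ⊢
    rw [map_mul, map_mul, map_inv]
    exact (Cfsg.Agent.Lib.Helper11.pCore_normal' p _).conj_mem _ hy _
  · rintro _ ⟨y, hy, rfl⟩
    rw [SetLike.mem_coe, mem_comap] at hy
    obtain ⟨k, hk⟩ := Cfsg.Agent.Lib.Helper11.pCore_isPGroup' p (↥N ⧸ C) ⟨_, hy⟩
    refine ⟨k, ?_⟩
    have hk' := congrArg Subtype.val hk
    simp only [Subgroup.coe_pow, Subgroup.coe_one] at hk'
    rw [← map_pow, QuotientGroup.mk'_apply, QuotientGroup.eq_one_iff, hC,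
      mem_subgroupOf] at hk'
    simpa using hk'
  · intro g hg hq
    exact ⟨⟨g, hg⟩, hst P hP g hg hq, rfl⟩

/-- If `⁅a, x⁆` is a `p`-element commuting with the `p'`-element `x`, it is trivial. -/
theorem commutator_eq_one_of_coprime [Finite G] {U : Subgroup G} (hU : IsPGroup p U)
    (a x : G) (hx : (orderOf x).Coprime p) (hc : ⁅a, x⁆ ∈ U)
    (hcx : ⁅a, x⁆ * x = x * ⁅a, x⁆) : ⁅a, x⁆ = 1 := by
  set c := ⁅a, x⁆ with hcdef
  have h1 : x * a * x⁻¹ = c⁻¹ * a := by
    rw [hcdef, commutatorElement_def]; group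
  have hcx' : x * c⁻¹ = c⁻¹ * x := by
    have h0 : c⁻¹ * (c * x) * c⁻¹ = c⁻¹ * (x * c) * c⁻¹ := by rw [hcx]
    rw [show c⁻¹ * (c * x) * c⁻¹ = x * c⁻¹ by group,
      show c⁻¹ * (x * c) * c⁻¹ = c⁻¹ * x by group] at h0
    exact h0
  have h2 : ∀ n : ℕ, x ^ n * a * (x ^ n)⁻¹ = (c⁻¹) ^ n * a := by
    intro n
    induction n with
    | zero => simp
    | succ n ih =>
      have hcomm : x * (c⁻¹) ^ n = (c⁻¹) ^ n * x := by
        have : Commute x (c⁻¹) := hcx'
        exact (this.pow_right n).eq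
      calc x ^ (n + 1) * a * (x ^ (n + 1))⁻¹
          = x * (x ^ n * a * (x ^ n)⁻¹) * x⁻¹ := by rw [pow_succ']; group
        _ = x * ((c⁻¹) ^ n * a) * x⁻¹ := by rw [ih]
        _ = (x * (c⁻¹) ^ n) * (a * x⁻¹) := by group
        _ = ((c⁻¹) ^ n * x) * (a * x⁻¹) := by rw [hcomm]
        _ = (c⁻¹) ^ n * (x * a * x⁻¹) := by group
        _ = (c⁻¹) ^ n * (c⁻¹ * a) := by rw [h1]
        _ = (c⁻¹) ^ (n + 1) * a := by rw [pow_succ]; group
  have h3 := h2 (orderOf x)
  rw [pow_orderOf_eq_one, one_mul, inv_one, mul_one] at h3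
  have h4 : c ^ orderOf x = 1 := by
    have : (c⁻¹) ^ orderOf x = 1 := by
      have := congrArg (fun t => t * a⁻¹) h3
      simp only [mul_inv_cancel, mul_inv_cancel_right] at this
      exact this.symm
    rwa [inv_pow, inv_eq_one] at this
  obtain ⟨k, hk⟩ := hU ⟨c, hc⟩
  have hk' : c ^ p ^ k = 1 := by
    have := congrArg Subtype.val hk
    simpa using this
  have hd1 : orderOf c ∣ orderOf x := orderOf_dvd_of_pow_eq_one h4
  have hd2 : orderOf c ∣ p ^ k := orderOf_dvd_of_pow_eq_one hk'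
  have hcop : (orderOf x).Coprime (p ^ k) := Nat.Coprime.pow_right k hx
  have : orderOf c = 1 := Nat.eq_one_of_dvd_coprimes hcop hd1 hd2
  exact orderOf_eq_one_iff.mp this

/-- A `p'`-element some `p`-power of which lies in `K` lies in `K`. -/
theorem mem_of_pow_mem_of_coprime (K : Subgroup G) (x : G) (hx : (orderOf x).Coprime p)
    (k : ℕ) (h : x ^ p ^ k ∈ K) : x ∈ K := by
  have hcop : (p ^ k).Coprime (orderOf x) := (Nat.Coprime.pow_right k hx).symm
  obtain ⟨m, hm⟩ := exists_pow_eq_self_of_coprime hcop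
  rw [← hm]
  exact K.pow_mem h m

/-- A normal subgroup without nontrivial `p'`-elements lies in `O_p`. -/
theorem le_pCore_of_coprime_trivial [Finite G] [Fact p.Prime] (E : Subgroup G) (hE : E.Normal)
    (h : ∀ x ∈ E, (orderOf x).Coprime p → x = 1) : E ≤ Cfsg.pCore p G :=
  Cfsg.Agent.Lib.Helper11.le_pCore' hE
    (Cfsg.Agent.Lib.Helper34.isPGroup_subgroup_of_forall_coprime_eq_one E h)

theorem le_normalizer_of_conj_mem {H K : Subgroup G}
    (h : ∀ g ∈ K, ∀ x ∈ H, g * x * g⁻¹ ∈ H) : K ≤ normalizer (H : Set G) := by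
  intro g hg
  rw [mem_normalizer_iff]
  intro x
  refine ⟨h g hg x, fun hx => ?_⟩
  have := h g⁻¹ (K.inv_mem hg) _ hx
  simpa [mul_assoc] using this

/-- The properties of a critical subgroup `A` of `O_p(G)` (in a group with
`C_G(O_p(G)) ≤ O_p(G)`) that are used below. -/
structure Crit (p : ℕ) (A : Subgroup G) : Prop where
  normal : A.Normal
  le_core : A ≤ Cfsg.pCore p G
  class2 : ⁅A, A⁆ ≤ centralizer (A : Set G)
  comm_core : ⁅Cfsg.pCore p G, A⁆ ≤ A ⊓ centralizer (A : Set G)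
  cent_le : centralizer (A : Set G) ≤ A

theorem Crit.isPGroup {A : Subgroup G} (hA : Crit p A) : IsPGroup p A :=
  (Cfsg.Agent.Lib.Helper11.pCore_isPGroup' p G).to_le hA.le_core

theorem Crit.of_hyps [Finite G] [Fact p.Prime] (A : Subgroup G)
    (hc : centralizer ((Cfsg.pCore p G : Subgroup G) : Set G) ≤ Cfsg.pCore p G)
    (hAT : A ≤ Cfsg.pCore p G)
    (hAchar : (A.subgroupOf (Cfsg.pCore p G)).Characteristic)
    (hA2 : ⁅A, A⁆ ≤ centralizer ((A : Subgroup G) : Set G))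
    (hA3 : ⁅Cfsg.pCore p G, A⁆ ≤ A ⊓ centralizer ((A : Subgroup G) : Set G))
    (hA4 : Cfsg.pCore p G ⊓ centralizer ((A : Subgroup G) : Set G) =
      A ⊓ centralizer ((A : Subgroup G) : Set G))
    (hA5 : ∀ φ : MulAut ↥(Cfsg.pCore p G), (orderOf φ).Coprime p →
      (∀ a : ↥(Cfsg.pCore p G), (a : G) ∈ A → φ a = a) → φ = 1) : Crit p A := by
  haveI hTn : (Cfsg.pCore p G).Normal := Cfsg.Agent.Lib.Helper11.pCore_normal' p G
  have hTp : IsPGroup p (Cfsg.pCore p G) := Cfsg.Agent.Lib.Helper11.pCore_isPGroup' p G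
  have hAn : A.Normal := by
    have h1 : ((A.subgroupOf (Cfsg.pCore p G)).map (Cfsg.pCore p G).subtype).Normal :=
      inferInstance
    rwa [subgroupOf_map_subtype, inf_eq_left.mpr hAT] at h1
  haveI := hAn
  have hCp : centralizer (A : Set G) ≤ Cfsg.pCore p G := by
    apply le_pCore_of_coprime_trivial _ inferInstance
    intro x hx hxp
    set φ : MulAut ↥(Cfsg.pCore p G) := MulAut.conjNormal x with hφ
    have hφo : (orderOf φ).Coprime p := by
      have hd : orderOf φ ∣ orderOf x := by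
        apply orderOf_dvd_of_pow_eq_one
        rw [hφ, ← map_pow, pow_orderOf_eq_one, map_one]
      exact Nat.Coprime.coprime_dvd_left hd hxp
    have hφA : ∀ a : ↥(Cfsg.pCore p G), (a : G) ∈ A → φ a = a := by
      intro a ha
      apply Subtype.ext
      rw [hφ, MulAut.conjNormal_apply]
      have := mem_centralizer_iff.mp hx (a : G) ha
      rw [← this, mul_inv_cancel_right]
    have hφ1 := hA5 φ hφo hφA
    have hxT : x ∈ Cfsg.pCore p G := by
      apply hc
      rw [mem_centralizer_iff]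
      intro t ht
      have := congrArg (fun ψ : MulAut ↥(Cfsg.pCore p G) => ((ψ ⟨t, ht⟩ : ↥(Cfsg.pCore p G)) : G)) hφ1
      simp only [hφ, MulAut.conjNormal_apply, MulAut.one_apply] at this
      calc t * x = (x * t * x⁻¹) * x := by rw [this]
        _ = x * t := by group
    exact Cfsg.Agent.Lib.Helper34.eq_one_of_mem_pgroup_of_coprime hTp hxT hxp
  refine ⟨hAn, hAT, hA2, hA3, ?_⟩
  intro x hx
  have : x ∈ Cfsg.pCore p G ⊓ centralizer (A : Set G) := ⟨hCp hx, hx⟩
  rw [hA4] at this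
  exact this.1

/-- An element acting quadratically on `A` lies in `O_p(G)`. -/
theorem quad_mem_pCore [Finite G] [Fact p.Prime] {A : Subgroup G} (hA : Crit p A)
    (hst : Cfsg.IsNormalizerPStable p G) (g : G)
    (hq : ⁅⁅A, zpowers g⁆, zpowers g⁆ = ⊥) : g ∈ Cfsg.pCore p G := by
  haveI := hA.normal
  obtain ⟨E, -, hEc, hEp, hEq⟩ := exists_stab_subgroup hst A hA.isPGroup
  have htop : ∀ n : G, n ∈ normalizer (A : Set G) := fun n => by
    rw [normalizer_eq_top]; trivial
  have hEn : E.Normal := ⟨fun x hx n => hEc n (htop n) x hx⟩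
  apply le_pCore_of_coprime_trivial E hEn _ (hEq g (htop g) hq)
  intro x hx hxp
  obtain ⟨k, hk⟩ := hEp x hx
  have hxc := mem_of_pow_mem_of_coprime _ x hxp k hk
  exact Cfsg.Agent.Lib.Helper34.eq_one_of_mem_pgroup_of_coprime hA.isPGroup (hA.cent_le hxc) hxp

theorem Crit.commutator_mem_center {A : Subgroup G} (hA : Crit p A) {x a : G} (hx : x ∈ A)
    (ha : a ∈ A) : ⁅x, a⁆ ∈ A ⊓ centralizer (A : Set G) :=
  ⟨by
    rw [commutatorElement_def]
    exact A.mul_mem (A.mul_mem (A.mul_mem hx ha) (A.inv_mem hx)) (A.inv_mem ha),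
    hA.class2 (commutator_mem_commutator hx ha)⟩

theorem Crit.center_normal {A : Subgroup G} (hA : Crit p A) :
    (A ⊓ centralizer (A : Set G)).Normal := by
  haveI := hA.normal
  infer_instance

theorem commutator_le_of_le_normalizer {H K : Subgroup G} (h : H ≤ normalizer (K : Set G)) :
    ⁅H, K⁆ ≤ K := by
  rw [commutator_le]
  intro a ha b hb
  rw [commutatorElement_def]
  exact K.mul_mem ((mem_normalizer_iff.mp (h ha) b).mp hb) (K.inv_mem hb)

/-- (H1): a subgroup `A₁` normalized by `A`, with `[A, A₁'] = 1` and acting quadratically on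
`Z(A)`, lies in `O_p(G)`. -/
theorem h1_le_pCore [Finite G] [Fact p.Prime] {A : Subgroup G} (hA : Crit p A)
    (hst : Cfsg.IsNormalizerPStable p G)
    (hst2 : ∀ (N : Subgroup G) [N.Normal], Cfsg.IsNormalizerPStable p (G ⧸ N))
    (A₁ : Subgroup G) (hn : A ≤ normalizer (A₁ : Set G)) (h2 : ⁅A, ⁅A₁, A₁⁆⁆ = ⊥)
    (h3 : ⁅⁅A ⊓ centralizer (A : Set G), A₁⁆, A₁⁆ = ⊥) : A₁ ≤ Cfsg.pCore p G := by
  haveI := hA.normal
  haveI hZn : (A ⊓ centralizer (A : Set G)).Normal := hA.center_normal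
  set ZA := A ⊓ centralizer (A : Set G) with hZA
  have hZAp : IsPGroup p ZA := hA.isPGroup.to_le inf_le_left
  intro g hg
  have hgz : zpowers g ≤ A₁ := by rwa [zpowers_le]
  -- first stability subgroup
  obtain ⟨E₁, -, hE₁c, hE₁p, hE₁q⟩ := exists_stab_subgroup hst ZA hZAp
  have htop₁ : ∀ n : G, n ∈ normalizer (ZA : Set G) := fun n => by
    rw [normalizer_eq_top]; trivial
  have hE₁n : E₁.Normal := ⟨fun x hx n => hE₁c n (htop₁ n) x hx⟩
  have hg₁ : g ∈ E₁ := by
    apply hE₁q g (htop₁ g)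
    rw [eq_bot_iff, ← h3]
    exact commutator_mono (commutator_mono le_rfl hgz) hgz
  -- second stability subgroup, in the quotient
  set f := QuotientGroup.mk' ZA with hf
  have hfs : Function.Surjective f := QuotientGroup.mk'_surjective ZA
  have hPn : (A.map f).Normal := Normal.map inferInstance f hfs
  obtain ⟨E₂, -, hE₂c, hE₂p, hE₂q⟩ := exists_stab_subgroup (hst2 ZA) (A.map f) (hA.isPGroup.map f)
  have htop₂ : ∀ n : G ⧸ ZA, n ∈ normalizer ((A.map f : Subgroup (G ⧸ ZA)) : Set (G ⧸ ZA)) :=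
    fun n => by rw [normalizer_eq_top]; trivial
  have hE₂n : E₂.Normal := ⟨fun x hx n => hE₂c n (htop₂ n) x hx⟩
  have hquad : ⁅⁅A, zpowers g⁆, zpowers g⁆ ≤ ZA := by
    have h4 : ⁅A, zpowers g⁆ ≤ A ⊓ A₁ :=
      le_inf (commutator_le_left A (zpowers g))
        ((commutator_mono le_rfl hgz).trans (commutator_le_of_le_normalizer hn))
    have h5 : ⁅A₁, A₁⁆ ≤ centralizer (A : Set G) :=
      le_centralizer_iff.mp (commutator_eq_bot_iff_le_centralizer.mp h2)
    refine le_inf ?_ ?_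
    · exact (commutator_mono (h4.trans inf_le_left) le_rfl).trans (commutator_le_left A (zpowers g))
    · exact (commutator_mono (h4.trans inf_le_right) hgz).trans h5
  have hg₂ : f g ∈ E₂ := by
    apply hE₂q (f g) (htop₂ _)
    rw [← MonoidHom.map_zpowers, ← map_commutator, ← map_commutator, eq_bot_iff]
    rw [map_le_iff_le_comap]
    intro x hx
    rw [mem_comap, mem_bot, hf, QuotientGroup.mk'_apply, QuotientGroup.eq_one_iff]
    exact hquad hx
  have hEn : (E₁ ⊓ E₂.comap f).Normal := by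
    haveI := hE₁n
    haveI := hE₂n
    infer_instance
  apply le_pCore_of_coprime_trivial _ hEn _ (⟨hg₁, hg₂⟩ : g ∈ E₁ ⊓ E₂.comap f)
  rintro x ⟨hx1, hx2⟩ hxp
  obtain ⟨k₁, hk₁⟩ := hE₁p x hx1
  have hxc : x ∈ centralizer (ZA : Set G) := mem_of_pow_mem_of_coprime _ x hxp k₁ hk₁
  obtain ⟨k₂, hk₂⟩ := hE₂p (f x) hx2
  have hxc2 : x ∈ (centralizer ((A.map f : Subgroup (G ⧸ ZA)) : Set (G ⧸ ZA))).comap f := by
    apply mem_of_pow_mem_of_coprime _ x hxp k₂
    rw [mem_comap, map_pow]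
    exact hk₂
  rw [mem_comap, mem_centralizer_iff] at hxc2
  have hxA : x ∈ centralizer (A : Set G) := by
    rw [mem_centralizer_iff]
    intro a ha
    have h6 : ⁅a, x⁆ ∈ ZA := by
      have h7 := hxc2 (f a) (mem_map_of_mem f ha)
      rw [← map_mul, ← map_mul, hf, QuotientGroup.mk'_apply, QuotientGroup.mk'_apply,
        QuotientGroup.eq] at h7
      have h8 : ⁅a, x⁆ = (x * a) * ((a * x)⁻¹ * (x * a))⁻¹ * (x * a)⁻¹ := by
        rw [commutatorElement_def]; group
      rw [h8]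
      exact hZn.conj_mem _ (ZA.inv_mem h7) (x * a)
    have h9 : ⁅a, x⁆ * x = x * ⁅a, x⁆ := (mem_centralizer_iff.mp hxc _ h6)
    have h10 := commutator_eq_one_of_coprime hZAp a x hxp h6 h9
    rw [commutatorElement_eq_one_iff_mul_comm] at h10
    exact h10
  exact Cfsg.Agent.Lib.Helper34.eq_one_of_mem_pgroup_of_coprime hA.isPGroup (hA.cent_le hxA) hxp

end KStab

end Cfsg.Agent.Lib.Helper49
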