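import Mathlib
import Cfsg.Agent.Lib.Helper49.KStab
import Cfsg.Agent.Lib.Helper49.SecFunctor
import Cfsg.Agent.Lib.Helper33.KCent

/-!
# The lower-star step of the `p`-stable K-infinity theorem

`critX hA B = {x ∈ A | [x, A] ≤ C_G(B)}` and `h3_le_pCore`: a `p`-subgroup `B` of class at most two,
normalized by the critical subgroup `A`, with the lower-star property relative to subgroups of
`A`, lies in `O_p(G)` when `G` and its sections are `p`-stable in the normalizer form.
-/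

set_option autoImplicit false
open scoped commutatorElement

namespace Cfsg.Agent.Lib.Helper49

open Subgroup

universe u

section KStab2

variable {G : Type u} [Group G] {p : ℕ}

/-- `{x ∈ A | [x, A] ≤ C_G(B)}`. -/
def critX {A : Subgroup G} (hA : Crit p A) (B : Subgroup G) : Subgroup G where
  carrier := {x | x ∈ A ∧ ∀ a ∈ A, ⁅x, a⁆ ∈ centralizer (B : Set G)}
  one_mem' := ⟨A.one_mem, fun a _ => by
    rw [commutatorElement_one_left]; exact Subgroup.one_mem _⟩
  mul_mem' := by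
    rintro x y ⟨hx, hx'⟩ ⟨hy, hy'⟩
    refine ⟨A.mul_mem hx hy, fun a ha => ?_⟩
    have h1 : ⁅x * y, a⁆ = x * ⁅y, a⁆ * x⁻¹ * ⁅x, a⁆ := by
      simp only [commutatorElement_def]; group
    have h2 : x * ⁅y, a⁆ * x⁻¹ = ⁅y, a⁆ := by
      have := mem_centralizer_iff.mp (hA.commutator_mem_center hy ha).2 x hx
      rw [this, mul_inv_cancel_right]
    rw [h1, h2]
    exact Subgroup.mul_mem _ (hy' a ha) (hx' a ha)
  inv_mem' := by
    rintro x ⟨hx, hx'⟩
    refine ⟨A.inv_mem hx, fun a ha => ?_⟩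
    have h1 : ⁅x⁻¹, a⁆ = x⁻¹ * ⁅x, a⁆⁻¹ * x := by
      simp only [commutatorElement_def]; group
    have h2 : x⁻¹ * ⁅x, a⁆⁻¹ * x = ⁅x, a⁆⁻¹ := by
      have h3 := mem_centralizer_iff.mp (hA.commutator_mem_center hx ha).2 x hx
      have h4 : x * ⁅x, a⁆⁻¹ = ⁅x, a⁆⁻¹ * x := by
        have : ⁅x, a⁆⁻¹ * (x * ⁅x, a⁆) * ⁅x, a⁆⁻¹ = ⁅x, a⁆⁻¹ * (⁅x, a⁆ * x) * ⁅x, a⁆⁻¹ := by
          rw [h3]
        rw [show ⁅x, a⁆⁻¹ * (x * ⁅x, a⁆) * ⁅x, a⁆⁻¹ = ⁅x, a⁆⁻¹ * x by group,
          show ⁅x, a⁆⁻¹ * (⁅x, a⁆ * x) * ⁅x, a⁆⁻¹ = x * ⁅x, a⁆⁻¹ by group] at this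
        exact this.symm
      rw [mul_assoc, ← h4, inv_mul_cancel_left]
    rw [h1, h2]
    exact Subgroup.inv_mem _ (hx' a ha)

theorem mem_critX {A : Subgroup G} (hA : Crit p A) (B : Subgroup G) (x : G) :
    x ∈ critX hA B ↔ x ∈ A ∧ ∀ a ∈ A, ⁅x, a⁆ ∈ centralizer (B : Set G) := Iff.rfl

theorem critX_le {A : Subgroup G} (hA : Crit p A) (B : Subgroup G) : critX hA B ≤ A :=
  fun _ hx => hx.1

theorem center_le_critX {A : Subgroup G} (hA : Crit p A) (B : Subgroup G) :
    A ⊓ centralizer (A : Set G) ≤ critX hA B := by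
  rintro x ⟨hx, hxc⟩
  refine ⟨hx, fun a ha => ?_⟩
  have : ⁅x, a⁆ = 1 := by
    rw [commutatorElement_eq_one_iff_mul_comm]
    exact (mem_centralizer_iff.mp hxc a ha).symm
  rw [this]; exact Subgroup.one_mem _

theorem zb_le_critX {A : Subgroup G} (hA : Crit p A) (B : Subgroup G)
    (hAB : A ≤ normalizer (B : Set G)) :
    B ⊓ centralizer (B : Set G) ⊓ A ≤ critX hA B := by
  haveI := hA.normal
  rintro z ⟨⟨hzB, hzc⟩, hzA⟩
  refine ⟨hzA, fun a ha => ?_⟩
  rw [mem_centralizer_iff]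
  intro b hb
  set u := ⁅b, a⁆ with hu
  have huB : u ∈ B := by
    rw [hu, commutatorElement_def, mul_assoc, mul_assoc]
    refine B.mul_mem hb ?_
    rw [← mul_assoc]
    exact (mem_normalizer_iff.mp (hAB ha) b⁻¹).mp (B.inv_mem hb)
  have huA : u ∈ A := by
    rw [hu, commutatorElement_def]
    exact A.mul_mem (‹A.Normal›.conj_mem a ha b) (A.inv_mem ha)
  have e1 : b * ⁅z, a⁆ * b⁻¹ = ⁅b * z * b⁻¹, b * a * b⁻¹⁆ := by
    simp only [commutatorElement_def]; group
  have e2 : b * z * b⁻¹ = z := by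
    rw [mem_centralizer_iff.mp hzc b hb, mul_inv_cancel_right]
  have e3 : b * a * b⁻¹ = u * a := by
    rw [hu, commutatorElement_def]; group
  have e4 : ⁅z, u * a⁆ = ⁅z, u⁆ * (u * ⁅z, a⁆ * u⁻¹) := by
    simp only [commutatorElement_def]; group
  have e5 : ⁅z, u⁆ = 1 := by
    rw [commutatorElement_eq_one_iff_mul_comm]
    exact (mem_centralizer_iff.mp hzc u huB).symm
  have e6 : u * ⁅z, a⁆ * u⁻¹ = ⁅z, a⁆ := by
    rw [mem_centralizer_iff.mp (hA.commutator_mem_center hzA ha).2 u huA, mul_inv_cancel_right]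
  have e7 : b * ⁅z, a⁆ * b⁻¹ = ⁅z, a⁆ := by
    rw [e1, e2, e3, e4, e5, e6, one_mul]
  calc b * ⁅z, a⁆ = (b * ⁅z, a⁆ * b⁻¹) * b := by group
    _ = ⁅z, a⁆ * b := by rw [e7]

theorem conj_mem_critX {A : Subgroup G} (hA : Crit p A) (B : Subgroup G) (g : G)
    (hg : ∀ c ∈ A ⊓ centralizer (A : Set G), c ∈ centralizer (B : Set G) →
      g * c * g⁻¹ ∈ centralizer (B : Set G))
    (x : G) (hx : x ∈ critX hA B) : g * x * g⁻¹ ∈ critX hA B := by
  haveI := hA.normal
  refine ⟨‹A.Normal›.conj_mem x hx.1 g, fun a ha => ?_⟩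
  have h1 : ⁅g * x * g⁻¹, a⁆ = g * ⁅x, g⁻¹ * a * g⁆ * g⁻¹ := by
    simp only [commutatorElement_def]; group
  have ha' : g⁻¹ * a * g ∈ A := by
    have := ‹A.Normal›.conj_mem a ha g⁻¹
    rwa [inv_inv] at this
  rw [h1]
  exact hg _ (hA.commutator_mem_center hx.1 ha') (hx.2 _ ha')

theorem le_normalizer_critX_B {A : Subgroup G} (hA : Crit p A) (B : Subgroup G) :
    B ≤ normalizer (critX hA B : Set G) := by
  apply le_normalizer_of_conj_mem
  intro g hg x hx
  apply conj_mem_critX hA B g _ x hx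
  intro c _ hc
  rw [mem_centralizer_iff.mp hc g hg, mul_inv_cancel_right]
  exact hc

theorem le_normalizer_critX_C {A : Subgroup G} (hA : Crit p A) (B : Subgroup G) :
    centralizer ((A ⊓ centralizer (A : Set G) : Subgroup G) : Set G) ≤
      normalizer (critX hA B : Set G) := by
  apply le_normalizer_of_conj_mem
  intro g hg x hx
  apply conj_mem_critX hA B g _ x hx
  intro c hcZ hc
  rw [← mem_centralizer_iff.mp hg c hcZ, mul_inv_cancel_right]
  exact hc

theorem le_normalizer_critX_A {A : Subgroup G} (hA : Crit p A) (B : Subgroup G) :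
    A ≤ normalizer (critX hA B : Set G) := by
  apply le_normalizer_of_conj_mem
  intro g hg x hx
  have h1 : g * x * g⁻¹ = ⁅g, x⁆ * x := by
    rw [commutatorElement_def]; group
  rw [h1]
  exact Subgroup.mul_mem _ (center_le_critX hA B (hA.commutator_mem_center hg hx.1)) hx

theorem critX_commutator_le {A : Subgroup G} (hA : Crit p A) (B : Subgroup G) :
    ⁅critX hA B, critX hA B⁆ ≤ centralizer (B : Set G) := by
  rw [commutator_le]
  intro x hx y hy
  exact hx.2 y hy.1

/-- A `p`-subgroup of a normal subgroup `E` which is a `p`-group modulo `C`, where `C`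
centralizes `E` modulo `O_p(G)`, lies in `O_p(G)`. -/
theorem le_pCore_of_central_mod [Finite G] [Fact p.Prime] (E C : Subgroup G) [hEn : E.Normal]
    (B : Subgroup G) (hBp : IsPGroup p B) (hBE : B ≤ E)
    (hpow : ∀ x ∈ E, ∃ k : ℕ, x ^ p ^ k ∈ C)
    (hcomm : ∀ c ∈ C, ∀ x ∈ E, ⁅c, x⁆ ∈ Cfsg.pCore p G) : B ≤ Cfsg.pCore p G := by
  haveI hTn : (Cfsg.pCore p G).Normal := Cfsg.Agent.Lib.Helper11.pCore_normal' p G
  have hTp : IsPGroup p (Cfsg.pCore p G) := Cfsg.Agent.Lib.Helper11.pCore_isPGroup' p G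
  set T := Cfsg.pCore p G with hT
  set π := QuotientGroup.mk' T with hπ
  have hπs : Function.Surjective π := QuotientGroup.mk'_surjective T
  haveI hEbn : (E.map π).Normal := Normal.map hEn π hπs
  have hpq : IsPGroup p (↥(E.map π) ⧸ center ↥(E.map π)) := by
    intro q
    obtain ⟨y, rfl⟩ := QuotientGroup.mk_surjective q
    obtain ⟨x, hxE, hxy⟩ := y.2
    obtain ⟨k, hk⟩ := hpow x hxE
    refine ⟨k, ?_⟩
    rw [← QuotientGroup.mk_pow, QuotientGroup.eq_one_iff, mem_center_iff]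
    intro w
    obtain ⟨x₂, hx₂E, hx₂w⟩ := w.2
    apply Subtype.ext
    simp only [Subgroup.coe_mul, Subgroup.coe_pow]
    rw [← hxy, ← hx₂w, ← map_pow, ← map_mul, ← map_mul, hπ, QuotientGroup.mk'_apply,
      QuotientGroup.mk'_apply, QuotientGroup.eq]
    have h1 := hcomm _ hk x₂ hx₂E
    have h2 : (x₂ * x ^ p ^ k)⁻¹ * (x ^ p ^ k * x₂) =
        x₂⁻¹ * ((x ^ p ^ k)⁻¹ * ⁅x ^ p ^ k, x₂⁆ * x ^ p ^ k) * x₂ := by
      rw [commutatorElement_def]; group
    rw [h2]
    have h3 := hTn.conj_mem _ (hTn.conj_mem _ h1 (x ^ p ^ k)⁻¹) x₂⁻¹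
    simpa [mul_assoc] using h3
  haveI hnq : Group.IsNilpotent (↥(E.map π) ⧸ center ↥(E.map π)) :=
    IsPGroup.isNilpotent (p := p) hpq
  have hnil : Group.IsNilpotent ↥(E.map π) :=
    Subgroup.isNilpotent_of_ker_le_center (QuotientGroup.mk' (center ↥(E.map π)))
      (by rw [QuotientGroup.ker_mk'])
  have hBb : IsPGroup p ((B.map π).subgroupOf (E.map π)) := (hBp.map π).comap_subtype
  obtain ⟨P', hP'⟩ := hBb.exists_le_sylow
  have hP'n : (P' : Subgroup ↥(E.map π)).Normal :=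
    Sylow.normal_of_normalizerCondition Group.normalizerCondition_of_isNilpotent P'
  haveI hP'c : (P' : Subgroup ↥(E.map π)).Characteristic := Sylow.characteristic_of_normal P' hP'n
  have hQn : ((P' : Subgroup ↥(E.map π)).map (E.map π).subtype).Normal := inferInstance
  set Q := (P' : Subgroup ↥(E.map π)).map (E.map π).subtype with hQ
  have hQp : IsPGroup p Q := P'.isPGroup'.map _
  have hQc : Q.comap π ≤ T := by
    apply Cfsg.Agent.Lib.Helper11.le_pCore' (hQn.comap π)
    intro x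
    obtain ⟨k, hk⟩ := hQp ⟨π x.1, x.2⟩
    have hk' : π (x.1 ^ p ^ k) = 1 := by
      have := congrArg Subtype.val hk
      simpa using this
    have hk'' : x.1 ^ p ^ k ∈ T := by
      have h0 : (QuotientGroup.mk (x.1 ^ p ^ k) : G ⧸ T) = 1 := hk'
      rwa [QuotientGroup.eq_one_iff] at h0
    obtain ⟨l, hl⟩ := hTp ⟨_, hk''⟩
    refine ⟨k + l, ?_⟩
    apply Subtype.ext
    have hl' := congrArg Subtype.val hl
    simp only [Subgroup.coe_pow, Subgroup.coe_one] at hl' ⊢
    rw [pow_add, pow_mul]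
    exact hl'
  intro b hb
  apply hQc
  rw [mem_comap]
  have hbE : π b ∈ E.map π := mem_map_of_mem π (hBE hb)
  refine ⟨⟨π b, hbE⟩, hP' ?_, rfl⟩
  rw [mem_subgroupOf]
  exact mem_map_of_mem π hb

/-- (H3): a `p`-subgroup `B` of class at most two, normalized by `A`, with the lower-star
property relative to the subgroups of `A`, lies in `O_p(G)`. -/
theorem h3_le_pCore [Finite G] [Fact p.Prime] {A : Subgroup G} (hA : Crit p A)
    (hst : Cfsg.IsNormalizerPStable p G)
    (hst3 : ∀ (K R : Subgroup G) [(R.subgroupOf K).Normal],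
      Cfsg.IsNormalizerPStable p (↥K ⧸ R.subgroupOf K))
    (B : Subgroup G) (hBp : IsPGroup p B) (hB2 : ⁅B, B⁆ ≤ centralizer (B : Set G))
    (hAB : A ≤ normalizer (B : Set G))
    (hB3 : ∀ A₁ : Subgroup G, A₁ ≤ A → ⁅A₁, A₁⁆ ≤ centralizer (A₁ : Set G) →
      B ≤ normalizer (A₁ : Set G) → ⁅B, ⁅A₁, A₁⁆⁆ = ⊥ →
      ⁅⁅B ⊓ centralizer (B : Set G), A₁⁆, A₁⁆ = ⊥ → ⁅B, A₁⁆ ≤ B ⊓ centralizer (B : Set G)) :
    B ≤ Cfsg.pCore p G := by
  haveI hAn := hA.normal
  haveI hZn : (A ⊓ centralizer (A : Set G)).Normal := hA.center_normal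
  haveI hTn : (Cfsg.pCore p G).Normal := Cfsg.Agent.Lib.Helper11.pCore_normal' p G
  have hTp : IsPGroup p (Cfsg.pCore p G) := Cfsg.Agent.Lib.Helper11.pCore_isPGroup' p G
  set T := Cfsg.pCore p G with hT
  set ZA := A ⊓ centralizer (A : Set G) with hZA
  set ZB := B ⊓ centralizer (B : Set G) with hZB
  set X := critX hA B with hX
  have hXA : X ≤ A := critX_le hA B
  have hXp : IsPGroup p X := hA.isPGroup.to_le hXA
  have hZAp : IsPGroup p ZA := hA.isPGroup.to_le inf_le_left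
  have hZBab : ⁅ZB, ZB⁆ = ⊥ := by
    rw [commutator_eq_bot_iff_le_centralizer]
    exact inf_le_right.trans (centralizer_le inf_le_left)
  have hZBB : ⁅ZB, B⁆ = ⊥ := by
    rw [commutator_eq_bot_iff_le_centralizer]; exact inf_le_right
  have hZAab : ⁅ZA, ZA⁆ = ⊥ := by
    rw [commutator_eq_bot_iff_le_centralizer]
    exact inf_le_right.trans (centralizer_le inf_le_left)
  -- Step 1: `Z(B) ≤ O_p(G)`
  have hAZB : A ≤ normalizer (ZB : Set G) := by
    apply le_normalizer_of_conj_mem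
    intro a ha z hz
    exact ⟨(mem_normalizer_iff.mp (hAB ha) z).mp hz.1,
      Cfsg.Agent.Lib.Helper33.conj_mem_centralizer_of_mem_normalizer (hAB ha) hz.2⟩
  have hZBT : ZB ≤ T := by
    intro g hg
    apply quad_mem_pCore hA hst g
    have hgz : zpowers g ≤ ZB := by rwa [zpowers_le]
    rw [eq_bot_iff, ← hZBab]
    exact commutator_mono
      ((commutator_mono le_rfl hgz).trans (commutator_le_of_le_normalizer hAZB)) hgz
  -- Step 3: `B` acts quadratically on `X`
  have hX2 : ⁅X, X⁆ ≤ centralizer (X : Set G) :=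
    (commutator_mono hXA hXA).trans (hA.class2.trans (centralizer_le hXA))
  have hBX : B ≤ normalizer (X : Set G) := le_normalizer_critX_B hA B
  have hBXX : ⁅B, ⁅X, X⁆⁆ = ⊥ := by
    rw [commutator_eq_bot_iff_le_centralizer]
    exact le_centralizer_iff.mp (critX_commutator_le hA B)
  have hZBXX : ⁅⁅ZB, X⁆, X⁆ = ⊥ := by
    rw [commutator_eq_bot_iff_le_centralizer]
    exact ((commutator_mono hZBT hXA).trans hA.comm_core).trans
      (inf_le_right.trans (centralizer_le hXA))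
  have hBXZ : ⁅B, X⁆ ≤ ZB := hB3 X hXA hX2 hBX hBXX hZBXX
  have hqX : ∀ g ∈ B, ⁅⁅X, zpowers g⁆, zpowers g⁆ = ⊥ := by
    intro g hg
    have hgz : zpowers g ≤ B := by rwa [zpowers_le]
    rw [eq_bot_iff, ← hZBB]
    refine commutator_mono ?_ hgz
    rw [commutator_comm]
    exact (commutator_mono hgz le_rfl).trans hBXZ
  -- Step 4: stability in `G` for `X`
  obtain ⟨E₁, hE₁N, hE₁c, hE₁p, hE₁q⟩ := exists_stab_subgroup hst X hXp
  have hBE₁ : ∀ g ∈ B, g ∈ E₁ := fun g hg => hE₁q g (hBX hg) (hqX g hg)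
  have hCX : centralizer (ZA : Set G) ≤ normalizer (X : Set G) := le_normalizer_critX_C hA B
  have hAX : A ≤ normalizer (X : Set G) := le_normalizer_critX_A hA B
  -- Step 5: stability in the section `N_G(X)/X` for `A/X`
  have hsec := hst3 (normalizer (X : Set G)) X
  set π := QuotientGroup.mk' (X.subgroupOf (normalizer (X : Set G))) with hπ
  have hπs : Function.Surjective π := QuotientGroup.mk'_surjective _
  set Ph : Subgroup (↥(normalizer (X : Set G)) ⧸ X.subgroupOf (normalizer (X : Set G))) :=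
    (A.subgroupOf (normalizer (X : Set G))).map π with hPh
  have hPp : IsPGroup p Ph := (hA.isPGroup.comap_subtype).map π
  have hPn : Ph.Normal := Normal.map inferInstance π hπs
  obtain ⟨E₂, -, hE₂c, hE₂p, hE₂q⟩ := exists_stab_subgroup hsec Ph hPp
  have htop₂ : ∀ n, n ∈ normalizer (Ph : Set (↥(normalizer (X : Set G)) ⧸
      X.subgroupOf (normalizer (X : Set G)))) := by
    intro n
    have h0 := normalizer_eq_top (H := Ph)
    rw [h0]; trivial
  have hquadA : ∀ g ∈ B, ⁅⁅A, zpowers g⁆, zpowers g⁆ ≤ X := by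
    intro g hg
    have hgz : zpowers g ≤ B := by rwa [zpowers_le]
    have h4 : ⁅A, zpowers g⁆ ≤ A ⊓ B :=
      le_inf (commutator_le_left A (zpowers g))
        ((commutator_mono le_rfl hgz).trans (commutator_le_of_le_normalizer hAB))
    have h5 : ⁅⁅A, zpowers g⁆, zpowers g⁆ ≤ ZB ⊓ A := by
      refine le_inf (le_inf ?_ ?_) ?_
      · exact (commutator_mono (h4.trans inf_le_right) hgz).trans
          (Cfsg.Agent.Lib.Helper33.commutator_self_le' B)
      · exact (commutator_mono (h4.trans inf_le_right) hgz).trans hB2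
      · exact (commutator_mono (h4.trans inf_le_left) le_rfl).trans
          (commutator_le_left A (zpowers g))
    exact h5.trans (zb_le_critX hA B hAB)
  have hBE₂ : ∀ g (hg : g ∈ B), π ⟨g, hBX hg⟩ ∈ E₂ := by
    intro g hg
    apply hE₂q _ (htop₂ _)
    rw [← MonoidHom.map_zpowers, ← map_commutator, ← map_commutator, eq_bot_iff,
      map_le_iff_le_comap]
    intro y hy
    rw [mem_comap, mem_bot, hπ, QuotientGroup.mk'_apply, QuotientGroup.eq_one_iff,
      mem_subgroupOf]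
    apply hquadA g hg
    have h6 : (⁅⁅A.subgroupOf (normalizer (X : Set G)),
        zpowers (⟨g, hBX hg⟩ : ↥(normalizer (X : Set G)))⁆,
        zpowers (⟨g, hBX hg⟩ : ↥(normalizer (X : Set G)))⁆).map (normalizer (X : Set G)).subtype
        ≤ ⁅⁅A, zpowers g⁆, zpowers g⁆ := by
      rw [map_commutator, map_commutator, MonoidHom.map_zpowers, subgroupOf_map_subtype]
      exact commutator_mono (commutator_mono inf_le_left le_rfl) le_rfl
    exact h6 (mem_map_of_mem _ hy)
  -- Step 6: the closure of the `C`-conjugates of `B` is a `p`-group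
  set H := closure {y : G | ∃ c ∈ centralizer (ZA : Set G), ∃ g ∈ B, y = c * g * c⁻¹} with hH
  have hHE₁ : H ≤ E₁ := by
    rw [hH, closure_le]
    rintro _ ⟨c, hc, g, hg, rfl⟩
    exact hE₁c c (hCX hc) g (hBE₁ g hg)
  have hHE₂ : H ≤ (E₂.comap π).map (normalizer (X : Set G)).subtype := by
    rw [hH, closure_le]
    rintro _ ⟨c, hc, g, hg, rfl⟩
    refine ⟨⟨c, hCX hc⟩ * ⟨g, hBX hg⟩ * ⟨c, hCX hc⟩⁻¹, ?_, rfl⟩
    rw [SetLike.mem_coe, mem_comap, map_mul, map_mul, map_inv]
    exact hE₂c _ (htop₂ _) _ (hBE₂ g hg)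
  have hHtriv : ∀ x ∈ H, (orderOf x).Coprime p → x = 1 := by
    intro x hx hxp
    obtain ⟨k₁, hk₁⟩ := hE₁p x (hHE₁ hx)
    have hxX : x ∈ centralizer (X : Set G) := mem_of_pow_mem_of_coprime _ x hxp k₁ hk₁
    obtain ⟨x', hx', rfl⟩ := hHE₂ hx
    rw [SetLike.mem_coe, mem_comap] at hx'
    obtain ⟨k₂, hk₂⟩ := hE₂p (π x') hx'
    have hxc2 : (x' : G) ∈ ((centralizer (Ph : Set (↥(normalizer (X : Set G)) ⧸
        X.subgroupOf (normalizer (X : Set G))))).comap π).map
        (normalizer (X : Set G)).subtype := by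
      apply mem_of_pow_mem_of_coprime _ _ hxp k₂
      refine ⟨x' ^ p ^ k₂, ?_, by simp⟩
      rw [SetLike.mem_coe, mem_comap, map_pow]
      exact hk₂
    obtain ⟨x'', hx'', hxeq⟩ := hxc2
    have hxx : x'' = x' := Subtype.ext hxeq
    subst hxx
    rw [SetLike.mem_coe, mem_comap, mem_centralizer_iff] at hx''
    have hxA : (x'' : G) ∈ centralizer (A : Set G) := by
      rw [mem_centralizer_iff]
      intro a ha
      have haN : a ∈ normalizer (X : Set G) := hAX ha
      have h6 : ⁅a, (x'' : G)⁆ ∈ X := by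
        have h7 := hx'' (π ⟨a, haN⟩) (mem_map_of_mem π (mem_subgroupOf.mpr ha))
        rw [← map_mul, ← map_mul, hπ, QuotientGroup.mk'_apply, QuotientGroup.mk'_apply,
          QuotientGroup.eq, mem_subgroupOf] at h7
        have h8 : ⁅a, (x'' : G)⁆ =
            ((x'' : G) * a) * ((a * (x'' : G))⁻¹ * ((x'' : G) * a))⁻¹ * ((x'' : G) * a)⁻¹ := by
          rw [commutatorElement_def]; group
        rw [h8]
        have hn : (x'' : G) * a ∈ normalizer (X : Set G) := Subgroup.mul_mem _ x''.2 haN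
        refine (mem_normalizer_iff.mp hn _).mp (X.inv_mem ?_)
        simpa using h7
      have h9 : ⁅a, (x'' : G)⁆ * x'' = x'' * ⁅a, (x'' : G)⁆ := mem_centralizer_iff.mp hxX _ h6
      have h10 := commutator_eq_one_of_coprime hXp a x'' hxp h6 h9
      rwa [commutatorElement_eq_one_iff_mul_comm] at h10
    exact Cfsg.Agent.Lib.Helper34.eq_one_of_mem_pgroup_of_coprime hA.isPGroup (hA.cent_le hxA) hxp
  have hHp : IsPGroup p H :=
    Cfsg.Agent.Lib.Helper34.isPGroup_subgroup_of_forall_coprime_eq_one H hHtriv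
  -- Step 7: `[C, B] ≤ O_p(G)`
  have hCn : (centralizer (ZA : Set G)).Normal := inferInstance
  have hCH : centralizer (ZA : Set G) ≤ normalizer (H : Set G) := by
    rw [hH]
    apply Cfsg.Agent.Lib.Helper33.le_normalizer_closure
    rintro q hq _ ⟨c, hc, g, hg, rfl⟩
    apply Subgroup.subset_closure
    exact ⟨q * c, Subgroup.mul_mem _ hq hc, g, hg, by group⟩
  have hDT : H ⊓ centralizer (ZA : Set G) ≤ T := by
    have hDn : ((H ⊓ centralizer (ZA : Set G)).subgroupOf (centralizer (ZA : Set G))).Normal := by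
      refine ⟨fun y hy c => ?_⟩
      rw [mem_subgroupOf] at hy ⊢
      refine ⟨?_, (c * y * c⁻¹).2⟩
      have := (mem_normalizer_iff.mp (hCH c.2) y).mp hy.1
      simpa using this
    have hDp : IsPGroup p ((H ⊓ centralizer (ZA : Set G)).subgroupOf (centralizer (ZA : Set G))) :=
      (hHp.to_le inf_le_left).comap_subtype
    have h1 := Cfsg.Agent.Lib.Helper11.le_pCore' hDn hDp
    haveI : (Cfsg.pCore p ↥(centralizer (ZA : Set G))).Characteristic :=
      characteristic_iff_map_eq.mpr (fun φ => pCore_map_mulEquiv p φ)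
    have h2 : ((Cfsg.pCore p ↥(centralizer (ZA : Set G))).map
        (centralizer (ZA : Set G)).subtype).Normal := inferInstance
    have h3 : (Cfsg.pCore p ↥(centralizer (ZA : Set G))).map (centralizer (ZA : Set G)).subtype
        ≤ T :=
      Cfsg.Agent.Lib.Helper11.le_pCore' h2
        ((Cfsg.Agent.Lib.Helper11.pCore_isPGroup' p _).map _)
    intro x hx
    exact h3 ⟨⟨x, hx.2⟩, h1 (mem_subgroupOf.mpr hx), rfl⟩
  have hBH : B ≤ H := by
    intro g hg
    rw [hH]
    apply Subgroup.subset_closure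
    exact ⟨1, Subgroup.one_mem _, g, hg, by group⟩
  have hCBT : ∀ c ∈ centralizer (ZA : Set G), ∀ g ∈ B, ⁅c, g⁆ ∈ T := by
    intro c hc g hg
    apply hDT
    refine ⟨?_, ?_⟩
    · rw [commutatorElement_def]
      refine H.mul_mem ?_ (H.inv_mem (hBH hg))
      rw [hH]
      apply Subgroup.subset_closure
      exact ⟨c, hc, g, hg, rfl⟩
    · rw [commutatorElement_def, mul_assoc, mul_assoc]
      refine Subgroup.mul_mem _ hc ?_
      rw [← mul_assoc]
      exact hCn.conj_mem _ (Subgroup.inv_mem _ hc) g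
  -- Step 8: `B` is a `p`-group modulo `C`
  have hBZA : ⁅B, ZA⁆ ≤ ZB := by
    apply hB3 ZA inf_le_left
    · rw [hZAab]; exact bot_le
    · rw [normalizer_eq_top]; exact le_top
    · rw [hZAab, commutator_bot_right]
    · rw [eq_bot_iff, ← hZAab]
      exact commutator_mono (commutator_le_right ZB ZA) le_rfl
  obtain ⟨EZ, -, hEZc, hEZp, hEZq⟩ := exists_stab_subgroup hst ZA hZAp
  have htopZ : ∀ n : G, n ∈ normalizer (ZA : Set G) := fun n => by
    rw [normalizer_eq_top]; trivial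
  have hEZn : EZ.Normal := ⟨fun x hx n => hEZc n (htopZ n) x hx⟩
  have hBEZ : B ≤ EZ := by
    intro g hg
    apply hEZq g (htopZ g)
    have hgz : zpowers g ≤ B := by rwa [zpowers_le]
    rw [eq_bot_iff, ← hZBB]
    refine commutator_mono ?_ hgz
    rw [commutator_comm]
    exact (commutator_mono hgz le_rfl).trans hBZA
  -- Step 9
  set ρ := QuotientGroup.mk' T with hρ
  have hρs : Function.Surjective ρ := QuotientGroup.mk'_surjective T
  have hCbn : ((centralizer (ZA : Set G)).map ρ).Normal := Normal.map hCn ρ hρs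
  have hMn : ((centralizer (((centralizer (ZA : Set G)).map ρ : Subgroup (G ⧸ T)) :
      Set (G ⧸ T))).comap ρ).Normal := by
    haveI := hCbn
    infer_instance
  set M := (centralizer (((centralizer (ZA : Set G)).map ρ : Subgroup (G ⧸ T)) :
      Set (G ⧸ T))).comap ρ with hM
  have hMmem : ∀ x : G, x ∈ M ↔ ∀ c ∈ centralizer (ZA : Set G), ⁅c, x⁆ ∈ T := by
    intro x
    rw [hM, mem_comap, mem_centralizer_iff]
    constructor
    · intro h c hc
      have h1 := h (ρ c) (mem_map_of_mem ρ hc)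
      rw [← map_mul, ← map_mul, hρ, QuotientGroup.mk'_apply, QuotientGroup.mk'_apply,
        QuotientGroup.eq] at h1
      have h2 : ⁅c, x⁆ = (x * c) * ((c * x)⁻¹ * (x * c))⁻¹ * (x * c)⁻¹ := by
        rw [commutatorElement_def]; group
      rw [h2]
      exact hTn.conj_mem _ (T.inv_mem h1) _
    · rintro h _ ⟨c, hc, rfl⟩
      rw [← map_mul, ← map_mul, hρ, QuotientGroup.mk'_apply, QuotientGroup.mk'_apply,
        QuotientGroup.eq]
      have h2 : (c * x)⁻¹ * (x * c) = (x * c)⁻¹ * ⁅c, x⁆⁻¹ * (x * c) := by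
        rw [commutatorElement_def]; group
      rw [h2]
      have := hTn.conj_mem _ (T.inv_mem (h c hc)) (x * c)⁻¹
      simpa [mul_assoc] using this
  have hEn : (EZ ⊓ M).Normal := by
    haveI := hEZn
    haveI := hMn
    infer_instance
  have hBM : B ≤ M := fun g hg => (hMmem g).mpr (fun c hc => hCBT c hc g hg)
  exact le_pCore_of_central_mod (EZ ⊓ M) (centralizer (ZA : Set G)) B hBp (le_inf hBEZ hBM)
    (fun x hx => hEZp x hx.1) (fun c hc x hx => (hMmem x).mp hx.2 c hc)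

end KStab2

end Cfsg.Agent.Lib.Helper49
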