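import Mathlib
import Cfsg.Agent.Lib.Helper49.KStab2
import Cfsg.Agent.Lib.Helper33.K4

/-!
# The `p`-stable half of Glauberman's K-infinity theorem

`kInf_normal_of_stable`: in a finite group `G` with `C_G(O_p(G)) ≤ O_p(G)` such that `G`, its
quotients and its sections are `p`-stable in the normalizer form, both K-infinity subgroups of
a Sylow `p`-subgroup are normal.
-/

set_option autoImplicit false
open scoped commutatorElement

namespace Cfsg.Agent.Lib.Helper49

open Subgroup Cfsg Cfsg.Agent.Lib.Helper33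

universe u

section KStab3

variable {G : Type u} [Group G] [Finite G] {p : ℕ} [Fact p.Prime]

/-- A critical subgroup in the sense of `exists_critical_in_pCore`, in a constrained group,
satisfies `Crit`. -/
theorem Crit.of_critical (A : Subgroup G) (hAn : A.Normal)
    (hc : centralizer ((Cfsg.pCore p G : Subgroup G) : Set G) ≤ Cfsg.pCore p G)
    (hAT : A ≤ Cfsg.pCore p G) (hA2 : ⁅A, A⁆ ≤ centralizer (A : Set G))
    (hA3 : ⁅Cfsg.pCore p G, A⁆ ≤ A ⊓ centralizer (A : Set G))
    (hA4 : Cfsg.pCore p G ⊓ centralizer (A : Set G) ≤ A) : Crit p A := by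
  haveI hTn : (Cfsg.pCore p G).Normal := Cfsg.Agent.Lib.Helper11.pCore_normal' p G
  have hTp : IsPGroup p (Cfsg.pCore p G) := Cfsg.Agent.Lib.Helper11.pCore_isPGroup' p G
  haveI := hAn
  have hCp : centralizer (A : Set G) ≤ Cfsg.pCore p G := by
    apply le_pCore_of_coprime_trivial _ inferInstance
    intro x hx hxp
    have hxz : zpowers x ≤ centralizer (A : Set G) := by rwa [zpowers_le]
    have h1 : ⁅⁅A, Cfsg.pCore p G⁆, zpowers x⁆ = ⊥ := by
      rw [commutator_eq_bot_iff_le_centralizer]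
      exact (commutator_le_left A _).trans (le_centralizer_iff.mp hxz)
    have h2 : ⁅⁅zpowers x, A⁆, Cfsg.pCore p G⁆ = ⊥ := by
      have : ⁅zpowers x, A⁆ = ⊥ := by
        rw [commutator_eq_bot_iff_le_centralizer]; exact hxz
      rw [this, commutator_bot_left]
    have h3 : ⁅⁅Cfsg.pCore p G, zpowers x⁆, A⁆ = ⊥ :=
      commutator_commutator_eq_bot_of_rotate h2 h1
    have h4 : ⁅Cfsg.pCore p G, zpowers x⁆ ≤ A :=
      (le_inf (commutator_le_left _ _) (commutator_eq_bot_iff_le_centralizer.mp h3)).trans hA4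
    have hxT : x ∈ Cfsg.pCore p G := by
      apply hc
      rw [mem_centralizer_iff]
      intro t ht
      have h5 : ⁅t, x⁆ ∈ A := h4 (commutator_mem_commutator ht (mem_zpowers x))
      have h6 : ⁅t, x⁆ * x = x * ⁅t, x⁆ := mem_centralizer_iff.mp hx _ h5
      have h7 := commutator_eq_one_of_coprime (hTp.to_le hAT) t x hxp h5 h6
      rwa [commutatorElement_eq_one_iff_mul_comm] at h7
    exact Cfsg.Agent.Lib.Helper34.eq_one_of_mem_pgroup_of_coprime hTp hxT hxp
  refine ⟨hAn, hAT, hA2, hA3, fun x hx => hA4 ⟨hCp hx, hx⟩⟩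

/-- Part I of the K-infinity argument in ambient form: if the subgroups of the Sylow
`p`-subgroup `S` of the three types all lie in `O_p(G)`, both K-infinity subgroups of `S` are
normal in `G`. -/
theorem kInf_normal_of_types (S : Sylow p G) (A : Subgroup G) [hAn : A.Normal]
    (hAT : A ≤ pCore p G) (hA2 : ⁅A, A⁆ ≤ centralizer (A : Set G))
    (hA3 : ⁅pCore p G, A⁆ ≤ A ⊓ centralizer (A : Set G))
    (hα : ∀ A₁ : Subgroup G, A₁ ≤ (S : Subgroup G) → A ≤ normalizer (A₁ : Set G) →
      ⁅A, ⁅A₁, A₁⁆⁆ = ⊥ → ⁅⁅A ⊓ centralizer (A : Set G), A₁⁆, A₁⁆ = ⊥ → A₁ ≤ pCore p G)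
    (hβ : ∀ B : Subgroup G, B ≤ (S : Subgroup G) → ⁅B, A⁆ ≤ B ⊓ centralizer (B : Set G) →
      B ≤ pCore p G)
    (hγ : ∀ B : Subgroup G, B ≤ (S : Subgroup G) → ⁅B, B⁆ ≤ centralizer (B : Set G) →
      A ≤ normalizer (B : Set G) →
      (∀ A₁ : Subgroup G, A₁ ≤ A → ⁅A₁, A₁⁆ ≤ centralizer (A₁ : Set G) →
        B ≤ normalizer (A₁ : Set G) → ⁅B, ⁅A₁, A₁⁆⁆ = ⊥ →
        ⁅⁅B ⊓ centralizer (B : Set G), A₁⁆, A₁⁆ = ⊥ → ⁅B, A₁⁆ ≤ B ⊓ centralizer (B : Set G)) →
      B ≤ pCore p G) :
    (inducedFunctor (G := G) kInfLower (S : Subgroup G)).Normal ∧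
      (inducedFunctor (G := G) kInfUpper (S : Subgroup G)).Normal := by
  obtain ⟨Q, hQ⟩ : ∃ Q : Subgroup G, Q = (S : Subgroup G) := ⟨_, rfl⟩
  rw [← hQ] at hα hβ hγ ⊢
  have hQp : IsPGroup p ↥Q := by rw [hQ]; exact S.2
  have hTQ : pCore p G ≤ Q := by rw [hQ]; exact pCore_le_sylIn (sylIn_top S)
  have hAQ : A ≤ Q := hAT.trans hTQ
  obtain ⟨T', hT'⟩ : ∃ T' : Subgroup ↥Q, T' = (pCore p G).subgroupOf Q := ⟨_, rfl⟩
  obtain ⟨A', hA'⟩ : ∃ A' : Subgroup ↥Q, A' = A.subgroupOf Q := ⟨_, rfl⟩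
  have hmT : T'.map Q.subtype = pCore p G := by
    rw [hT']; exact Subgroup.map_subgroupOf_eq_of_le hTQ
  have hmA : A'.map Q.subtype = A := by
    rw [hA']; exact Subgroup.map_subgroupOf_eq_of_le hAQ
  have hA'n : A'.Normal := by rw [hA']; infer_instance
  have hA2' : A' ∈ classTwoSubgroups ↥Q := by
    rw [← classTwo_map_iff, hmA]; exact hA2
  have hA3' : ⁅T', A'⁆ ≤ A' ⊓ Subgroup.centralizer (A' : Set ↥Q) := by
    rw [← Subgroup.map_le_map_iff_of_injective Q.subtype_injective, Subgroup.map_commutator,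
      map_inf_centralizer, hmT, hmA]
    exact hA3
  have inj := Q.subtype_injective
  have h : ∀ n : ℕ, kSeqEven ↥Q n ≤ T' ∧ kSeqOdd ↥Q (n + 1) ≤ T' := by
    apply kSeq_le_of_types T' A' hA2' hA3'
    · intro A₁' _ hAn1 hc1 hc2
      rw [← Subgroup.map_le_map_iff_of_injective inj, hmT]
      apply hα (A₁'.map Q.subtype) (Subgroup.map_subtype_le _)
      · rw [← hmA]; exact (map_le_normalizer_map_iff Q A' A₁').mpr hAn1
      · rw [← hmA, ← Subgroup.map_commutator, ← Subgroup.map_commutator, hc1, Subgroup.map_bot]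
      · rw [← hmA, ← map_inf_centralizer, ← Subgroup.map_commutator, ← Subgroup.map_commutator,
          hc2, Subgroup.map_bot]
    · intro B' _ hBA
      rw [← Subgroup.map_le_map_iff_of_injective inj, hmT]
      apply hβ (B'.map Q.subtype) (Subgroup.map_subtype_le _)
      rw [← hmA, ← Subgroup.map_commutator, ← map_inf_centralizer]
      exact Subgroup.map_mono hBA
    · intro B' hB' hAB hcond
      rw [← Subgroup.map_le_map_iff_of_injective inj, hmT]
      apply hγ (B'.map Q.subtype) (Subgroup.map_subtype_le _) ((classTwo_map_iff Q B').mpr hB')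
      · rw [← hmA]; exact (map_le_normalizer_map_iff Q A' B').mpr hAB
      · intro A₁ hA₁A hA₁2 hBn hc1 hc2
        obtain ⟨A₁', hA₁'⟩ : ∃ A₁' : Subgroup ↥Q, A₁' = A₁.subgroupOf Q := ⟨_, rfl⟩
        have hm1 : A₁'.map Q.subtype = A₁ := by
          rw [hA₁']; exact Subgroup.map_subgroupOf_eq_of_le (hA₁A.trans hAQ)
        have h1 : A₁' ∈ classTwoSubgroups ↥Q := by
          rw [← classTwo_map_iff, hm1]; exact hA₁2
        have h2 : A₁' ≤ A' := by
          rw [← Subgroup.map_le_map_iff_of_injective inj, hm1, hmA]; exact hA₁A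
        have h3 : B' ≤ Subgroup.normalizer (A₁' : Set ↥Q) := by
          rw [← map_le_normalizer_map_iff, hm1]; exact hBn
        have h4 : ⁅B', ⁅A₁', A₁'⁆⁆ = ⊥ := by
          apply (Subgroup.map_eq_bot_iff_of_injective _ inj).mp
          rw [Subgroup.map_commutator, Subgroup.map_commutator, hm1]; exact hc1
        have h5 : ⁅⁅B' ⊓ Subgroup.centralizer (B' : Set ↥Q), A₁'⁆, A₁'⁆ = ⊥ := by
          apply (Subgroup.map_eq_bot_iff_of_injective _ inj).mp
          rw [Subgroup.map_commutator, Subgroup.map_commutator, map_inf_centralizer, hm1]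
          exact hc2
        have h6 := hcond A₁' h1 h2 h3 h4 h5
        rw [← hm1, ← Subgroup.map_commutator, ← map_inf_centralizer]
        exact Subgroup.map_mono h6
  have hk := kInf_subgroup_eq T' h
  have hTp : IsPGroup p ↥(pCore p G) := pCore_isPGroup p G
  have hT'p : IsPGroup p ↥T' := hQp.to_subgroup T'
  have e1 : ∀ W : (∀ (R : Type u) [Group R], Subgroup R), IsCharPFunctor.{u} p W →
      (W ↥T').map T'.subtype = W ↥Q →
      inducedFunctor (G := G) W Q = inducedFunctor (G := G) W (pCore p G) := by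
    intro W hW hWk
    have h1 := inducedFunctor_map hW Q.subtype T' hT'p (fun x _ hx => by simpa using hx)
    rw [hmT] at h1
    rw [h1, inducedFunctor_def, inducedFunctor_def, hWk]
  constructor
  · have h2 := e1 _ (isCharPFunctor_kInfLower p) hk.1
    have h3 := inducedFunctor_normal_of_normal (isCharPFunctor_kInfLower p)
      (pCore_normal p G) hTp
    rw [← h2] at h3
    exact h3
  · have h2 := e1 _ (isCharPFunctor_kInfUpper p) hk.2
    have h3 := inducedFunctor_normal_of_normal (isCharPFunctor_kInfUpper p)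
      (pCore_normal p G) hTp
    rw [← h2] at h3
    exact h3

/-- The `p`-stable half of Glauberman's K-infinity theorem. -/
theorem kInf_normal_of_stable
    (hc : centralizer ((Cfsg.pCore p G : Subgroup G) : Set G) ≤ Cfsg.pCore p G)
    (hst : Cfsg.IsNormalizerPStable p G)
    (hst2 : ∀ (N : Subgroup G) [N.Normal], Cfsg.IsNormalizerPStable p (G ⧸ N))
    (hst3 : ∀ (K R : Subgroup G) [(R.subgroupOf K).Normal],
      Cfsg.IsNormalizerPStable p (↥K ⧸ R.subgroupOf K))
    (S : Sylow p G) :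
    (inducedFunctor (G := G) kInfLower (S : Subgroup G)).Normal ∧
      (inducedFunctor (G := G) kInfUpper (S : Subgroup G)).Normal := by
  obtain ⟨A, hAn, hAT, hA2, hA3, hA4⟩ := exists_critical_in_pCore p G
  have hA : Crit p A := Crit.of_critical A hAn hc hAT hA2 hA3 hA4
  haveI := hAn
  apply kInf_normal_of_types S A hAT hA2 hA3
  · intro A₁ _ hn h2 h3
    exact h1_le_pCore hA hst hst2 A₁ hn h2 h3
  · intro B _ hBA g hg
    apply quad_mem_pCore hA hst g
    have hgz : zpowers g ≤ B := by rwa [zpowers_le]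
    have h1 : ⁅A, zpowers g⁆ ≤ centralizer (B : Set G) := by
      rw [commutator_comm]
      exact (commutator_mono hgz le_rfl).trans (hBA.trans inf_le_right)
    rw [commutator_eq_bot_iff_le_centralizer]
    exact h1.trans (centralizer_le hgz)
  · intro B hBS hB2 hAB hcond
    exact h3_le_pCore hA hst hst3 B (S.2.to_le hBS) hB2 hAB hcond

end KStab3

end Cfsg.Agent.Lib.Helper49
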