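import Mathlib
import Cfsg.Agent.Lib.Helper49.KStab3
import Cfsg.Agent.Lib.Helper33.K5

/-!
# Quadratic action on chief factors, along subnormal chains

`QuadChief H A Zs`: the subgroup `Zs` acts quadratically on every `H`-chief factor `U/V` with
`U ≤ A` (a pair of `H`-invariant subgroups `V < U` of the ambient group with nothing
`H`-invariant strictly between). The property holds for `H` if `H` normalizes a subgroup `X`
with `[X, Zs, Zs] = 1` and `[A, Zs, Zs] ≤ X` (`quadChief_base`), and it passes from a normal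
subgroup `H'` of `H` to `H` (`quadChief_climb`), hence along subnormal chains
(`quadChief_chain`).
-/

set_option autoImplicit false
open scoped commutatorElement

namespace Cfsg.Agent.Lib.Helper49

open Subgroup Cfsg Cfsg.Agent.Lib.Helper33

universe u

section KChief

variable {G : Type u} [Group G]

/-- The elements of `N_G(V)` centralizing `K` modulo `V`. -/
def cmod (V K : Subgroup G) : Subgroup G where
  carrier := {c | c ∈ normalizer (V : Set G) ∧ ∀ k ∈ K, ⁅c, k⁆ ∈ V}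
  one_mem' := ⟨Subgroup.one_mem _, fun k _ => by
    rw [commutatorElement_one_left]; exact Subgroup.one_mem _⟩
  mul_mem' := by
    rintro a b ⟨ha, ha'⟩ ⟨hb, hb'⟩
    refine ⟨Subgroup.mul_mem _ ha hb, fun k hk => ?_⟩
    have h1 : ⁅a * b, k⁆ = a * ⁅b, k⁆ * a⁻¹ * ⁅a, k⁆ := by
      simp only [commutatorElement_def]; group
    rw [h1]
    exact V.mul_mem ((mem_normalizer_iff.mp ha _).mp (hb' k hk)) (ha' k hk)
  inv_mem' := by
    rintro a ⟨ha, ha'⟩
    refine ⟨Subgroup.inv_mem _ ha, fun k hk => ?_⟩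
    have h1 : ⁅a⁻¹, k⁆ = a⁻¹ * ⁅a, k⁆⁻¹ * a⁻¹⁻¹ := by
      simp only [commutatorElement_def]; group
    rw [h1]
    exact (mem_normalizer_iff.mp (Subgroup.inv_mem _ ha) _).mp (V.inv_mem (ha' k hk))

theorem mem_cmod {V K : Subgroup G} {c : G} :
    c ∈ cmod V K ↔ c ∈ normalizer (V : Set G) ∧ ∀ k ∈ K, ⁅c, k⁆ ∈ V := Iff.rfl

theorem commutator_le_of_le_cmod {P V K : Subgroup G} (h : P ≤ cmod V K) : ⁅P, K⁆ ≤ V := by
  rw [commutator_le]
  intro a ha k hk
  exact (h ha).2 k hk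

theorem le_cmod_self {V K : Subgroup G} (hK : K ≤ normalizer (V : Set G)) : V ≤ cmod V K := by
  intro v hv
  refine ⟨le_normalizer hv, fun k hk => ?_⟩
  rw [commutatorElement_def, mul_assoc, mul_assoc]
  refine V.mul_mem hv ?_
  rw [← mul_assoc]
  exact (mem_normalizer_iff.mp (hK hk) _).mp (V.inv_mem hv)

/-- If `U/V` is abelian and `U` is generated by subgroups on which `Zs` acts quadratically
modulo `V`, then `Zs` acts quadratically on `U` modulo `V`. -/
theorem quad_of_generated {U V Zs : Subgroup G} (hUU : ⁅U, U⁆ ≤ V)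
    (hUV : U ≤ normalizer (V : Set G)) (hZU : Zs ≤ normalizer (U : Set G))
    (hZV : Zs ≤ normalizer (V : Set G)) (Ps : Set (Subgroup G))
    (hPs : ∀ P ∈ Ps, P ≤ U ∧ ⁅⁅P, Zs⁆, Zs⁆ ≤ V) (hU : U ≤ sSup Ps) :
    ⁅⁅U, Zs⁆, Zs⁆ ≤ V := by
  have hcU : ∀ u ∈ U, ∀ z ∈ Zs, ⁅u, z⁆ ∈ U := by
    intro u hu z hz
    rw [commutatorElement_def, mul_assoc, mul_assoc]
    refine U.mul_mem hu ?_
    rw [← mul_assoc]
    exact (mem_normalizer_iff.mp (hZU hz) _).mp (U.inv_mem hu)
  have hVc : V ≤ cmod V Zs := le_cmod_self hZV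
  let Q : Subgroup G :=
    { carrier := {u | u ∈ U ∧ ∀ z ∈ Zs, ⁅u, z⁆ ∈ cmod V Zs}
      one_mem' := ⟨U.one_mem, fun z _ => by
        rw [commutatorElement_one_left]; exact Subgroup.one_mem _⟩
      mul_mem' := by
        rintro a b ⟨ha, ha'⟩ ⟨hb, hb'⟩
        refine ⟨U.mul_mem ha hb, fun z hz => ?_⟩
        have h1 : ⁅a * b, z⁆ = ⁅a, ⁅b, z⁆⁆ * ⁅b, z⁆ * ⁅a, z⁆ := by
          simp only [commutatorElement_def]; group
        rw [h1]
        exact Subgroup.mul_mem _ (Subgroup.mul_mem _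
          (hVc (hUU (commutator_mem_commutator ha (hcU b hb z hz)))) (hb' z hz)) (ha' z hz)
      inv_mem' := by
        rintro a ⟨ha, ha'⟩
        refine ⟨U.inv_mem ha, fun z hz => ?_⟩
        have h1 : ⁅a⁻¹, z⁆ = ⁅a⁻¹, ⁅a, z⁆⁻¹⁆ * ⁅a, z⁆⁻¹ := by
          simp only [commutatorElement_def]; group
        rw [h1]
        exact Subgroup.mul_mem _
          (hVc (hUU (commutator_mem_commutator (U.inv_mem ha) (U.inv_mem (hcU a ha z hz)))))
          (Subgroup.inv_mem _ (ha' z hz)) }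
  have hPQ : ∀ P ∈ Ps, P ≤ Q := by
    intro P hP u hu
    obtain ⟨hPU, hPq⟩ := hPs P hP
    refine ⟨hPU hu, fun z hz => ⟨hUV (hcU u (hPU hu) z hz), fun z' hz' => ?_⟩⟩
    exact hPq (commutator_mem_commutator (commutator_mem_commutator hu hz) hz')
  have hUQ : U ≤ Q := hU.trans (sSup_le hPQ)
  apply commutator_le_of_le_cmod
  rw [commutator_le]
  intro u hu z hz
  exact (hUQ hu).2 z hz

/-- `U/V` is an `H`-chief factor: `V < U` are normalized by `H` and no subgroup normalized by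
`H` lies strictly between them. -/
def RelChief (H U V : Subgroup G) : Prop :=
  V < U ∧ H ≤ normalizer (U : Set G) ∧ H ≤ normalizer (V : Set G) ∧
    ∀ W : Subgroup G, H ≤ normalizer (W : Set G) → V ≤ W → W ≤ U → W = V ∨ W = U

/-- `Zs` acts quadratically on every `H`-chief factor inside `A`. -/
def QuadChief (H A Zs : Subgroup G) : Prop :=
  ∀ U V : Subgroup G, RelChief H U V → U ≤ A → ⁅⁅U, Zs⁆, Zs⁆ ≤ V

theorem le_normalizer_sup {X H K : Subgroup G}
    (hH : X ≤ normalizer (H : Set G)) (hK : X ≤ normalizer (K : Set G)) :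
    X ≤ normalizer ((H ⊔ K : Subgroup G) : Set G) := by
  intro x hx
  rw [mem_normalizer_iff_cj]
  show (H ⊔ K).map (MulAut.conj x).toMonoidHom = H ⊔ K
  rw [Subgroup.map_sup]
  have h1 : H.map (MulAut.conj x).toMonoidHom = H := mem_normalizer_iff_cj.1 (hH hx)
  have h2 : K.map (MulAut.conj x).toMonoidHom = K := mem_normalizer_iff_cj.1 (hK hx)
  rw [h1, h2]

theorem le_normalizer_inf {X H K : Subgroup G}
    (hH : X ≤ normalizer (H : Set G)) (hK : X ≤ normalizer (K : Set G)) :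
    X ≤ normalizer ((H ⊓ K : Subgroup G) : Set G) := by
  intro x hx
  rw [mem_normalizer_iff_cj, cj_inf, mem_normalizer_iff_cj.1 (hH hx),
    mem_normalizer_iff_cj.1 (hK hx)]

/-- An `H`-chief factor inside a subgroup `A ≤ H` of class at most two is abelian. -/
theorem RelChief.commutator_le {H A U V : Subgroup G} (hA2 : ⁅A, A⁆ ≤ centralizer (A : Set G))
    (hAH : A ≤ H) (h : RelChief H U V) (hUA : U ≤ A) : ⁅U, U⁆ ≤ V := by
  obtain ⟨hlt, hHU, hHV, hmin⟩ := h
  have hUV : U ≤ normalizer (V : Set G) := (hUA.trans hAH).trans hHV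
  rcases hmin (V ⊔ ⁅U, U⁆) (le_normalizer_sup hHV (le_normalizer_commutator hHU hHU))
    le_sup_left (sup_le hlt.le (Subgroup.commutator_le_self U)) with h1 | h1
  · rw [← h1]; exact le_sup_right
  · apply commutator_le_of_le_cmod
    have h2 : V ⊔ ⁅U, U⁆ ≤ cmod V U := by
      refine sup_le (le_cmod_self hUV) ?_
      intro c hc
      refine ⟨hUV (Subgroup.commutator_le_self U hc), fun k hk => ?_⟩
      have h3 : c ∈ centralizer (A : Set G) := hA2 (commutator_mono hUA hUA hc)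
      have h4 : ⁅c, k⁆ = 1 := by
        rw [commutatorElement_eq_one_iff_mul_comm]
        exact (mem_centralizer_iff.mp h3 k (hUA hk)).symm
      rw [h4]; exact V.one_mem
    rw [h1] at h2
    exact h2

theorem commutator_zs_le {U Zs : Subgroup G} (hZU : Zs ≤ normalizer (U : Set G)) :
    ⁅U, Zs⁆ ≤ U := by
  rw [commutator_comm]
  exact commutator_le_of_le_normalizer hZU

/-- The base case: a subgroup `H` normalizing `X`, with `Zs` quadratic on `X` and on `A`
modulo `X`. -/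
theorem quadChief_base {H A Zs X : Subgroup G} (hA2 : ⁅A, A⁆ ≤ centralizer (A : Set G))
    (hAH : A ≤ H) (hZH : Zs ≤ H) (hXH : H ≤ normalizer (X : Set G))
    (hX : ⁅⁅X, Zs⁆, Zs⁆ = ⊥) (hAX : ⁅⁅A, Zs⁆, Zs⁆ ≤ X) : QuadChief H A Zs := by
  intro U V hUV hUA
  have hUU := hUV.commutator_le hA2 hAH hUA
  obtain ⟨hlt, hHU, hHV, hmin⟩ := hUV
  have hZU : Zs ≤ normalizer (U : Set G) := hZH.trans hHU
  have hZV : Zs ≤ normalizer (V : Set G) := hZH.trans hHV
  have hUVn : U ≤ normalizer (V : Set G) := (hUA.trans hAH).trans hHV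
  rcases hmin (V ⊔ U ⊓ X) (le_normalizer_sup hHV (le_normalizer_inf hHU hXH))
    le_sup_left (sup_le hlt.le inf_le_left) with h1 | h1
  · have h2 : U ⊓ X ≤ V := by rw [← h1]; exact le_sup_right
    refine le_trans (le_inf ?_ ?_) h2
    · exact (commutator_mono (commutator_zs_le hZU) le_rfl).trans (commutator_zs_le hZU)
    · exact (commutator_mono (commutator_mono hUA le_rfl) le_rfl).trans hAX
  · apply quad_of_generated hUU hUVn hZU hZV {V, U ⊓ X}
    · rintro P (rfl | rfl)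
      · exact ⟨hlt.le, (commutator_mono (commutator_zs_le hZV) le_rfl).trans
          (commutator_zs_le hZV)⟩
      · refine ⟨inf_le_left, ?_⟩
        have h3 := commutator_mono (commutator_mono (inf_le_right : U ⊓ X ≤ X)
          (le_refl Zs)) (le_refl Zs)
        rw [hX] at h3
        exact h3.trans bot_le
    · rw [sSup_pair, h1]

theorem le_normalizer_cj {H' W : Subgroup G} {h : G} (hh : h ∈ normalizer (H' : Set G))
    (hW : H' ≤ normalizer (W : Set G)) :
    H' ≤ normalizer ((cj h W : Subgroup G) : Set G) := by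
  intro x hx
  rw [mem_normalizer_iff_cj]
  have h1 : h⁻¹ * x * h ∈ H' := by
    have := (mem_normalizer_iff.mp (Subgroup.inv_mem _ hh) x).mp hx
    simpa using this
  have h2 : x * h = h * (h⁻¹ * x * h) := by group
  rw [← cj_mul, h2, cj_mul, mem_normalizer_iff_cj.1 (hW h1)]

theorem RelChief.cj {H' U₁ V : Subgroup G} {h : G} (hh : h ∈ normalizer (H' : Set G))
    (hV : h ∈ normalizer (V : Set G)) (hr : RelChief H' U₁ V) :
    RelChief H' (Cfsg.Agent.Lib.Helper33.cj h U₁) V := by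
  obtain ⟨hlt, hHU, hHV, hmin⟩ := hr
  have hVe : Cfsg.Agent.Lib.Helper33.cj h V = V := mem_normalizer_iff_cj.1 hV
  have hVe' : Cfsg.Agent.Lib.Helper33.cj h⁻¹ V = V :=
    mem_normalizer_iff_cj.1 (Subgroup.inv_mem _ hV)
  refine ⟨?_, le_normalizer_cj hh hHU, hHV, ?_⟩
  · refine lt_of_le_of_ne ?_ ?_
    · rw [← hVe]; exact cj_mono hlt.le
    · intro he
      apply hlt.ne
      have h1 := congrArg (Cfsg.Agent.Lib.Helper33.cj h⁻¹) he
      rw [hVe', cj_inv_cj] at h1
      exact h1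
  · intro W hW hVW hWU
    have h1 := hmin (Cfsg.Agent.Lib.Helper33.cj h⁻¹ W)
      (le_normalizer_cj (Subgroup.inv_mem _ hh) hW)
      (by rw [← hVe']; exact cj_mono hVW)
      (cj_le_iff.mpr (by rwa [inv_inv]))
    rcases h1 with h1 | h1
    · left
      have h2 := congrArg (Cfsg.Agent.Lib.Helper33.cj h) h1
      rwa [cj_cj_inv, hVe] at h2
    · right
      have h2 := congrArg (Cfsg.Agent.Lib.Helper33.cj h) h1
      rwa [cj_cj_inv] at h2

/-- The property passes from a normal subgroup `H'` of `H` to `H`. -/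
theorem quadChief_climb [Finite G] {H' H A Zs : Subgroup G}
    (hA2 : ⁅A, A⁆ ≤ centralizer (A : Set G)) (hAH' : A ≤ H') (hZH' : Zs ≤ H') (hle : H' ≤ H)
    (hn : H ≤ normalizer (H' : Set G)) (hq : QuadChief H' A Zs) : QuadChief H A Zs := by
  intro U V hUV hUA
  have hUU := hUV.commutator_le hA2 (hAH'.trans hle) hUA
  obtain ⟨hlt, hHU, hHV, hmin⟩ := hUV
  have hZU : Zs ≤ normalizer (U : Set G) := (hZH'.trans hle).trans hHU
  have hZV : Zs ≤ normalizer (V : Set G) := (hZH'.trans hle).trans hHV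
  have hUVn : U ≤ normalizer (V : Set G) := ((hUA.trans hAH').trans hle).trans hHV
  -- a minimal `H'`-invariant subgroup above `V`
  obtain ⟨U₁, hU₁U, hU₁, hU₁min⟩ := exists_minimal_le_of_wellFoundedLT
    (fun W : Subgroup G => V < W ∧ W ≤ U ∧ H' ≤ normalizer (W : Set G)) U
    ⟨hlt, le_rfl, hle.trans hHU⟩
  have hrel : RelChief H' U₁ V := by
    refine ⟨hU₁.1, hU₁.2.2, hle.trans hHV, fun W hW hVW hWU => ?_⟩
    by_cases hWV : W = V
    · exact Or.inl hWV
    · right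
      exact le_antisymm hWU
        (hU₁min ⟨lt_of_le_of_ne hVW (Ne.symm hWV), hWU.trans hU₁.2.1, hW⟩ hWU)
  have hconj : ∀ h ∈ H, Cfsg.Agent.Lib.Helper33.cj h U₁ ≤ U ∧
      ⁅⁅Cfsg.Agent.Lib.Helper33.cj h U₁, Zs⁆, Zs⁆ ≤ V := by
    intro h hh
    have h1 : Cfsg.Agent.Lib.Helper33.cj h U₁ ≤ U := by
      have h2 := cj_mono (g := h) hU₁.2.1
      rwa [mem_normalizer_iff_cj.1 (hHU hh)] at h2
    exact ⟨h1, hq _ _ (hrel.cj (hn hh) (hHV hh)) (h1.trans hUA)⟩
  obtain ⟨Wst, hWst⟩ : ∃ Wst : Subgroup G,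
      Wst = ⨆ h : H, Cfsg.Agent.Lib.Helper33.cj (h : G) U₁ := ⟨_, rfl⟩
  have hWn : H ≤ normalizer (Wst : Set G) := by
    apply le_normalizer_of_conj_mem
    intro x hx w hw
    have h4 : Cfsg.Agent.Lib.Helper33.cj x Wst ≤ Wst := by
      rw [hWst]
      show (⨆ h : H, Cfsg.Agent.Lib.Helper33.cj (h : G) U₁).map (MulAut.conj x).toMonoidHom ≤ _
      rw [Subgroup.map_iSup]
      apply iSup_le
      intro h
      have h3 : (Cfsg.Agent.Lib.Helper33.cj (h : G) U₁).map (MulAut.conj x).toMonoidHom =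
          Cfsg.Agent.Lib.Helper33.cj ((⟨x, hx⟩ * h : H) : G) U₁ := by
        rw [Subgroup.coe_mul, cj_mul]
      rw [h3]
      exact le_iSup (fun h : H => Cfsg.Agent.Lib.Helper33.cj (h : G) U₁) (⟨x, hx⟩ * h)
    apply h4
    rw [mem_cj]
    have h5 : x⁻¹ * (x * w * x⁻¹) * x = w := by group
    rw [h5]
    exact hw
  have hU₁W : U₁ ≤ Wst := by
    have h3 := le_iSup (fun h : H => Cfsg.Agent.Lib.Helper33.cj (h : G) U₁) 1
    rw [← hWst] at h3
    simpa [cj_one] using h3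
  have hWU : Wst ≤ U := by
    rw [hWst]
    exact iSup_le (fun h => (hconj h h.2).1)
  have hWeq : Wst = U := by
    rcases hmin Wst hWn (hU₁.1.le.trans hU₁W) hWU with h1 | h1
    · exact absurd (h1 ▸ hU₁W) (not_le_of_gt hU₁.1)
    · exact h1
  apply quad_of_generated hUU hUVn hZU hZV
    (Set.range (fun h : H => Cfsg.Agent.Lib.Helper33.cj (h : G) U₁))
  · rintro P ⟨h, rfl⟩
    exact hconj h h.2
  · rw [sSup_range, ← hWst, hWeq]

/-- Normalizers grow in a subgroup `L` which is a `p`-group modulo its normal subgroup `C`. -/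
theorem exists_mem_normalizer_not_mem [Finite G] {p : ℕ} [Fact p.Prime] {C L H : Subgroup G}
    [hCn : C.Normal] (hCH : C ≤ H) (hlt : H < L) (hLp : ∀ y ∈ L, ∃ k : ℕ, y ^ p ^ k ∈ C) :
    ∃ y ∈ L, y ∉ H ∧ y ∈ normalizer (H : Set G) := by
  have hNn : (C.subgroupOf L).Normal := hCn.subgroupOf L
  have hQp : IsPGroup p (↥L ⧸ C.subgroupOf L) := by
    intro q
    obtain ⟨y, rfl⟩ := QuotientGroup.mk_surjective q
    obtain ⟨k, hk⟩ := hLp y y.2
    refine ⟨k, ?_⟩
    rw [← QuotientGroup.mk_pow, QuotientGroup.eq_one_iff, mem_subgroupOf]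
    simpa using hk
  have hnil : Group.IsNilpotent (↥L ⧸ C.subgroupOf L) := hQp.isNilpotent
  have hNC := Group.normalizerCondition_of_isNilpotent (G := ↥L ⧸ C.subgroupOf L)
  obtain ⟨Hb, hHb⟩ : ∃ Hb : Subgroup (↥L ⧸ C.subgroupOf L),
      Hb = (H.subgroupOf L).map (QuotientGroup.mk' (C.subgroupOf L)) := ⟨_, rfl⟩
  have hmemHb : ∀ y : ↥L, QuotientGroup.mk' (C.subgroupOf L) y ∈ Hb ↔ (y : G) ∈ H := by
    intro y
    rw [hHb]
    constructor
    · rintro ⟨x, hx, hxy⟩
      have h0 : x⁻¹ * y ∈ C.subgroupOf L := QuotientGroup.eq.mp hxy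
      have h1 : ((x⁻¹ * y : ↥L) : G) ∈ C := mem_subgroupOf.mp h0
      have hxH : (x : G) ∈ H := mem_subgroupOf.mp hx
      have h2 : (y : G) = (x : G) * ((x⁻¹ * y : ↥L) : G) := by simp
      rw [h2]
      exact H.mul_mem hxH (hCH h1)
    · intro hy
      exact mem_map_of_mem _ (mem_subgroupOf.mpr hy)
  have hHblt : Hb < ⊤ := by
    rw [lt_top_iff_ne_top]
    intro htop
    apply not_le_of_gt hlt
    intro y hy
    have h1 : QuotientGroup.mk' (C.subgroupOf L) ⟨y, hy⟩ ∈ Hb := by rw [htop]; trivial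
    exact (hmemHb ⟨y, hy⟩).mp h1
  obtain ⟨q, hqN, hqH⟩ := SetLike.exists_of_lt (hNC Hb hHblt)
  obtain ⟨y, rfl⟩ := QuotientGroup.mk'_surjective (C.subgroupOf L) q
  refine ⟨y, y.2, fun hy => hqH ((hmemHb y).mpr hy), ?_⟩
  apply mem_normalizer_of_conj_mem
  intro s hs
  have hsL : s ∈ L := hlt.le hs
  have h1 : QuotientGroup.mk' (C.subgroupOf L) (y * ⟨s, hsL⟩ * y⁻¹) ∈ Hb := by
    rw [map_mul, map_mul, map_inv]
    exact (mem_normalizer_iff.mp hqN _).mp ((hmemHb ⟨s, hsL⟩).mpr hs)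
  exact (hmemHb _).mp h1

/-- The property climbs from `H` to `L` when `L` is a `p`-group modulo a normal subgroup
`C ≤ H`. -/
theorem quadChief_chain [Finite G] {p : ℕ} [Fact p.Prime] {C L A Zs : Subgroup G}
    [hCn : C.Normal] (hA2 : ⁅A, A⁆ ≤ centralizer (A : Set G))
    (hLp : ∀ y ∈ L, ∃ k : ℕ, y ^ p ^ k ∈ C) :
    ∀ H : Subgroup G, C ≤ H → A ≤ H → Zs ≤ H → H ≤ L → QuadChief H A Zs →
      QuadChief L A Zs := by
  intro H
  induction H using WellFoundedGT.induction with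
  | ind H ih =>
    intro hCH hAH hZH hHL hq
    by_cases hHeq : H = L
    · rw [← hHeq]; exact hq
    · have hlt : H < L := lt_of_le_of_ne hHL hHeq
      obtain ⟨y, hyL, hyH, hyN⟩ := exists_mem_normalizer_not_mem hCH hlt hLp
      have hlt₁ : H < normalizer (H : Set G) ⊓ L :=
        lt_of_le_of_ne (le_inf le_normalizer hHL) (fun he => hyH (he ▸ ⟨hyN, hyL⟩))
      exact ih _ hlt₁ (hCH.trans hlt₁.le) (hAH.trans hlt₁.le) (hZH.trans hlt₁.le) inf_le_right
        (quadChief_climb hA2 hAH hZH hlt₁.le inf_le_left hq)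

end KChief

end Cfsg.Agent.Lib.Helper49
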