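import Mathlib
import Cfsg.Agent.Lib.Helper49.KChief

/-!
# The chief-factor clause of Glauberman's local K-infinity theorem

`exists_quad_chief`: in a finite group `G` with a critical subgroup `A ≤ O_p(G)` (`Crit p A`,
available when `C_G(O_p(G)) ≤ O_p(G)`), if a K-infinity subgroup of a Sylow `p`-subgroup `S`
is not normal in `G`, some `g ∈ S` outside `O_p(G)` acts cubically on `A`, quadratically on
`Z(A)`, and quadratically but nontrivially on some chief factor of `G` inside `A`.
-/

set_option autoImplicit false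
open scoped commutatorElement

namespace Cfsg.Agent.Lib.Helper49

open Subgroup Cfsg Cfsg.Agent.Lib.Helper33

universe u

section KChief2

variable {G : Type u} [Group G]

/-- The elements centralizing every chief factor `U/V` of `G` with `U ≤ A₀`. -/
def stabChief (A₀ : Subgroup G) : Subgroup G :=
  ⨅ UV : {UV : Subgroup G × Subgroup G // IsChiefFactor UV.1 UV.2 ∧ UV.1 ≤ A₀},
    centMod UV.1.1 UV.1.2

theorem mem_stabChief {A₀ : Subgroup G} {x : G} :
    x ∈ stabChief A₀ ↔
      ∀ U V : Subgroup G, IsChiefFactor U V → U ≤ A₀ → ⁅U, zpowers x⁆ ≤ V := by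
  rw [stabChief, Subgroup.mem_iInf]
  constructor
  · intro h U V hUV hU
    have h1 := h ⟨(U, V), hUV, hU⟩
    rw [← le_centMod_iff hUV.2.2.1, zpowers_le]
    exact h1
  · rintro h ⟨⟨U, V⟩, hUV, hU⟩
    have h1 := h U V hUV hU
    rw [← le_centMod_iff hUV.2.2.1, zpowers_le] at h1
    exact h1

theorem stabChief_normal (A₀ : Subgroup G) : (stabChief A₀).Normal := by
  rw [stabChief]
  apply Subgroup.normal_iInf_normal
  rintro ⟨⟨U, V⟩, hUV, hU⟩
  exact centMod_normal U V hUV.2.1

theorem centralizer_le_stabChief (A₀ : Subgroup G) :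
    centralizer (A₀ : Set G) ≤ stabChief A₀ := by
  intro c hc
  rw [mem_stabChief]
  intro U V _ hU
  have h1 : ⁅U, zpowers c⁆ = ⊥ := by
    rw [commutator_eq_bot_iff_le_centralizer]
    exact le_centralizer_iff.mp ((zpowers_le.mpr hc).trans (centralizer_le hU))
  rw [h1]
  exact bot_le

/-- A `p'`-element centralizing all chief factors inside a `p`-subgroup `A₀` centralizes every
normal subgroup of `G` inside `A₀`. -/
theorem mem_centralizer_of_stabChief [Finite G] {p : ℕ} [Fact p.Prime] {A₀ : Subgroup G}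
    (hA₀ : IsPGroup p A₀) {x : G} (hx : x ∈ stabChief A₀) (hxp : (orderOf x).Coprime p) :
    ∀ W : Subgroup G, W.Normal → W ≤ A₀ → x ∈ centralizer (W : Set G) := by
  intro W
  induction W using WellFoundedLT.induction with
  | ind W ih =>
    intro hWn hWA
    by_cases hW : W = ⊥
    · rw [hW, mem_centralizer_iff]
      intro h hh
      rw [SetLike.mem_coe, mem_bot] at hh
      rw [hh, one_mul, mul_one]
    · obtain ⟨Y, hY⟩ := exists_chiefFactor_below hWn hW
      have hxY := ih Y hY.1 hY.2.2.1 (hY.1.le.trans hWA)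
      have hcomm := (mem_stabChief.mp hx) W Y hY hWA
      rw [mem_centralizer_iff]
      intro w hw
      have hc : ⁅w, x⁆ ∈ Y := hcomm (commutator_mem_commutator hw (mem_zpowers x))
      have hcx : ⁅w, x⁆ * x = x * ⁅w, x⁆ := mem_centralizer_iff.mp hxY _ hc
      have h1 := commutator_eq_one_of_coprime (hA₀.to_le (hY.1.le.trans hWA)) w x hxp hc hcx
      rwa [commutatorElement_eq_one_iff_mul_comm] at h1

/-- Modulo the centralizer of the normal `p`-subgroup `A₀`, the group `stabChief A₀` is a
`p`-group. -/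
theorem stabChief_pow_mem [Finite G] {p : ℕ} [Fact p.Prime] {A₀ : Subgroup G} (hA₀n : A₀.Normal)
    (hA₀ : IsPGroup p A₀) :
    ∀ y ∈ stabChief A₀, ∃ k : ℕ, y ^ p ^ k ∈ centralizer (A₀ : Set G) := by
  intro y hy
  have hp : p.Prime := Fact.out
  refine ⟨(orderOf y).factorization p, ?_⟩
  apply mem_centralizer_of_stabChief hA₀ (Subgroup.pow_mem _ hy _) _ A₀ hA₀n le_rfl
  rw [orderOf_pow, Nat.gcd_eq_right (Nat.ordProj_dvd (orderOf y) p)]
  exact (Nat.coprime_ordCompl hp (orderOf_pos y).ne').symm

/-- With a critical subgroup `A`, the elements centralizing every chief factor inside `A` lie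
in `O_p(G)`. -/
theorem stabChief_le_pCore [Finite G] {p : ℕ} [Fact p.Prime] {A : Subgroup G} (hA : Crit p A) :
    stabChief A ≤ Cfsg.pCore p G := by
  apply le_pCore_of_coprime_trivial _ (stabChief_normal A)
  intro x hx hxp
  have h1 := mem_centralizer_of_stabChief hA.isPGroup hx hxp A hA.normal le_rfl
  exact Cfsg.Agent.Lib.Helper34.eq_one_of_mem_pgroup_of_coprime hA.isPGroup (hA.cent_le h1) hxp

theorem relChief_top_of_isChiefFactor {U V : Subgroup G} (h : IsChiefFactor U V) :
    RelChief ⊤ U V := by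
  obtain ⟨hlt, hUn, hVn, hmin⟩ := h
  refine ⟨hlt, ?_, ?_, fun W hW => hmin W (normalizer_eq_top_iff.mp (top_le_iff.mp hW))⟩
  · rw [normalizer_eq_top_iff.mpr hUn]
  · rw [normalizer_eq_top_iff.mpr hVn]

/-- An element outside `O_p(G)` acting quadratically on all chief factors inside the critical
subgroup `A` acts nontrivially on one of them. -/
theorem chief_of_quadChief_top [Finite G] {p : ℕ} [Fact p.Prime] {A : Subgroup G}
    (hA : Crit p A) {g : G} (hg : g ∉ Cfsg.pCore p G) (hq : QuadChief ⊤ A (zpowers g)) :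
    ∃ U V : Subgroup G, IsChiefFactor U V ∧ U ≤ A ∧
      ⁅⁅U, zpowers g⁆, zpowers g⁆ ≤ V ∧ ¬ ⁅U, zpowers g⁆ ≤ V := by
  by_contra hcon
  apply hg
  apply stabChief_le_pCore hA
  rw [mem_stabChief]
  intro U V hUV hU
  by_contra hnot
  exact hcon ⟨U, V, hUV, hU, hq U V (relChief_top_of_isChiefFactor hUV) hU, hnot⟩

/-- An element of `S` outside `O_p(G)` acting quadratically on `A` satisfies the conclusion of
the local theorem. -/
theorem good_of_quad [Finite G] {p : ℕ} [Fact p.Prime] {A : Subgroup G} (hA : Crit p A)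
    {g : G} (hgT : g ∉ Cfsg.pCore p G) (hq : ⁅⁅A, zpowers g⁆, zpowers g⁆ = ⊥) :
    iterCommutator A (zpowers g) 3 ≤ A ⊓ centralizer (A : Set G) ∧
      ⁅⁅A ⊓ centralizer (A : Set G), zpowers g⁆, zpowers g⁆ = ⊥ ∧
      ∃ U V : Subgroup G, IsChiefFactor U V ∧ U ≤ A ∧
        ⁅⁅U, zpowers g⁆, zpowers g⁆ ≤ V ∧ ¬ ⁅U, zpowers g⁆ ≤ V := by
  haveI := hA.normal
  refine ⟨?_, ?_, ?_⟩
  · show ⁅⁅⁅A, zpowers g⁆, zpowers g⁆, zpowers g⁆ ≤ _
    rw [hq, commutator_bot_left]
    exact bot_le
  · rw [eq_bot_iff, ← hq]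
    exact commutator_mono (commutator_mono inf_le_left le_rfl) le_rfl
  · apply chief_of_quadChief_top hA hgT
    apply quadChief_base (X := A) hA.class2 le_top le_top
    · rw [normalizer_eq_top]
    · exact hq
    · rw [hq]; exact bot_le

/-- The chief-factor clause of Glauberman's local K-infinity theorem. -/
theorem exists_quad_chief [Finite G] {p : ℕ} [Fact p.Prime] {A : Subgroup G} (hA : Crit p A)
    (S : Sylow p G)
    (hK : ¬ ((inducedFunctor (G := G) kInfLower (S : Subgroup G)).Normal ∧
      (inducedFunctor (G := G) kInfUpper (S : Subgroup G)).Normal)) :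
    ∃ g : G, g ∈ (S : Subgroup G) ∧ g ∉ Cfsg.pCore p G ∧
      iterCommutator A (zpowers g) 3 ≤ A ⊓ centralizer (A : Set G) ∧
      ⁅⁅A ⊓ centralizer (A : Set G), zpowers g⁆, zpowers g⁆ = ⊥ ∧
      ∃ U V : Subgroup G, IsChiefFactor U V ∧ U ≤ A ∧
        ⁅⁅U, zpowers g⁆, zpowers g⁆ ≤ V ∧ ¬ ⁅U, zpowers g⁆ ≤ V := by
  haveI hAn := hA.normal
  haveI hZn : (A ⊓ centralizer (A : Set G)).Normal := hA.center_normal
  by_contra hno
  apply hK
  apply kInf_normal_of_types S A hA.le_core hA.class2 hA.comm_core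
  · -- type (H1)
    intro A₁ hA₁S hn h2 h3
    by_contra hnot
    obtain ⟨g, hg, hgT⟩ := SetLike.not_le_iff_exists.mp hnot
    apply hno
    have hgz : zpowers g ≤ A₁ := by rwa [zpowers_le]
    have hZq : ⁅⁅A ⊓ centralizer (A : Set G), zpowers g⁆, zpowers g⁆ = ⊥ := by
      rw [eq_bot_iff, ← h3]
      exact commutator_mono (commutator_mono le_rfl hgz) hgz
    have hquad : ⁅⁅A, zpowers g⁆, zpowers g⁆ ≤ A ⊓ centralizer (A : Set G) := by
      have h4 : ⁅A, zpowers g⁆ ≤ A ⊓ A₁ :=
        le_inf (commutator_le_left A (zpowers g))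
          ((commutator_mono le_rfl hgz).trans (commutator_le_of_le_normalizer hn))
      have h5 : ⁅A₁, A₁⁆ ≤ centralizer (A : Set G) :=
        le_centralizer_iff.mp (commutator_eq_bot_iff_le_centralizer.mp h2)
      refine le_inf ?_ ?_
      · exact (commutator_mono (h4.trans inf_le_left) le_rfl).trans
          (commutator_le_left A (zpowers g))
      · exact (commutator_mono (h4.trans inf_le_right) hgz).trans h5
    refine ⟨g, hA₁S hg, hgT, ?_, hZq, ?_⟩
    · show ⁅⁅⁅A, zpowers g⁆, zpowers g⁆, zpowers g⁆ ≤ _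
      exact (commutator_mono hquad le_rfl).trans
        (commutator_le_left (A ⊓ centralizer (A : Set G)) (zpowers g))
    · apply chief_of_quadChief_top hA hgT
      apply quadChief_base (X := A ⊓ centralizer (A : Set G)) hA.class2 le_top le_top
      · rw [normalizer_eq_top]
      · exact hZq
      · exact hquad
  · -- type (H2)
    intro B hBS hBA
    by_contra hnot
    obtain ⟨g, hg, hgT⟩ := SetLike.not_le_iff_exists.mp hnot
    apply hno
    have hgz : zpowers g ≤ B := by rwa [zpowers_le]
    have hq : ⁅⁅A, zpowers g⁆, zpowers g⁆ = ⊥ := by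
      have h1 : ⁅A, zpowers g⁆ ≤ centralizer (B : Set G) := by
        rw [commutator_comm]
        exact (commutator_mono hgz le_rfl).trans (hBA.trans inf_le_right)
      rw [commutator_eq_bot_iff_le_centralizer]
      exact h1.trans (centralizer_le hgz)
    obtain ⟨h1, h2, h3⟩ := good_of_quad hA hgT hq
    exact ⟨g, hBS hg, hgT, h1, h2, h3⟩
  · -- type (H3)
    intro B hBS hB2 hAB hcond
    by_contra hnot
    apply hno
    have hTn : (Cfsg.pCore p G).Normal := Cfsg.Agent.Lib.Helper11.pCore_normal' p G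
    obtain ⟨ZA, hZA⟩ : ∃ ZA : Subgroup G, ZA = A ⊓ centralizer (A : Set G) := ⟨_, rfl⟩
    obtain ⟨ZB, hZB⟩ : ∃ ZB : Subgroup G, ZB = B ⊓ centralizer (B : Set G) := ⟨_, rfl⟩
    rw [← hZA] at hZn ⊢
    rw [← hZB] at hcond
    have hZAp : IsPGroup p ZA := hA.isPGroup.to_le (hZA ▸ inf_le_left)
    have hZAA : ZA ≤ A := hZA ▸ inf_le_left
    have hZBab : ⁅ZB, ZB⁆ = ⊥ := by
      rw [commutator_eq_bot_iff_le_centralizer, hZB]
      exact inf_le_right.trans (centralizer_le inf_le_left)
    have hZBB : ⁅ZB, B⁆ = ⊥ := by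
      rw [commutator_eq_bot_iff_le_centralizer, hZB]; exact inf_le_right
    have hZAab : ⁅ZA, ZA⁆ = ⊥ := by
      rw [commutator_eq_bot_iff_le_centralizer, hZA]
      exact inf_le_right.trans (centralizer_le inf_le_left)
    have hAZB : A ≤ normalizer (ZB : Set G) := by
      apply le_normalizer_of_conj_mem
      intro a ha z hz
      rw [hZB] at hz ⊢
      exact ⟨(mem_normalizer_iff.mp (hAB ha) z).mp hz.1,
        Cfsg.Agent.Lib.Helper33.conj_mem_centralizer_of_mem_normalizer (hAB ha) hz.2⟩
    by_cases hZBT : ZB ≤ Cfsg.pCore p G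
    · -- the main case
      obtain ⟨g, hg, hgT⟩ := SetLike.not_le_iff_exists.mp hnot
      have hgz : zpowers g ≤ B := by rwa [zpowers_le]
      obtain ⟨X, hX⟩ : ∃ X : Subgroup G, X = critX hA B := ⟨_, rfl⟩
      have hXA : X ≤ A := hX ▸ critX_le hA B
      have hX2 : ⁅X, X⁆ ≤ centralizer (X : Set G) :=
        (commutator_mono hXA hXA).trans (hA.class2.trans (centralizer_le hXA))
      have hBX : B ≤ normalizer (X : Set G) := hX ▸ le_normalizer_critX_B hA B
      have hBXX : ⁅B, ⁅X, X⁆⁆ = ⊥ := by
        rw [commutator_eq_bot_iff_le_centralizer]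
        exact le_centralizer_iff.mp (hX ▸ critX_commutator_le hA B)
      have hZBXX : ⁅⁅ZB, X⁆, X⁆ = ⊥ := by
        rw [commutator_eq_bot_iff_le_centralizer]
        exact ((commutator_mono hZBT hXA).trans hA.comm_core).trans
          (inf_le_right.trans (centralizer_le hXA))
      have hBXZ : ⁅B, X⁆ ≤ ZB := hcond X hXA hX2 hBX hBXX hZBXX
      have hqX : ⁅⁅X, zpowers g⁆, zpowers g⁆ = ⊥ := by
        rw [eq_bot_iff, ← hZBB]
        refine commutator_mono ?_ hgz
        rw [commutator_comm]
        exact (commutator_mono hgz le_rfl).trans hBXZ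
      have hquadA : ⁅⁅A, zpowers g⁆, zpowers g⁆ ≤ X := by
        have h4 : ⁅A, zpowers g⁆ ≤ A ⊓ B :=
          le_inf (commutator_le_left A (zpowers g))
            ((commutator_mono le_rfl hgz).trans (commutator_le_of_le_normalizer hAB))
        have h5 : ⁅⁅A, zpowers g⁆, zpowers g⁆ ≤ B ⊓ centralizer (B : Set G) ⊓ A := by
          refine le_inf (le_inf ?_ ?_) ?_
          · exact (commutator_mono (h4.trans inf_le_right) hgz).trans
              (Cfsg.Agent.Lib.Helper33.commutator_self_le' B)
          · exact (commutator_mono (h4.trans inf_le_right) hgz).trans hB2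
          · exact (commutator_mono (h4.trans inf_le_left) le_rfl).trans
              (commutator_le_left A (zpowers g))
        rw [hX]
        exact h5.trans (zb_le_critX hA B hAB)
      have hBZA : ⁅B, ZA⁆ ≤ ZB := by
        apply hcond ZA hZAA
        · rw [hZAab]; exact bot_le
        · rw [normalizer_eq_top]; exact le_top
        · rw [hZAab, commutator_bot_right]
        · rw [eq_bot_iff, ← hZAab]
          exact commutator_mono (commutator_le_right ZB ZA) le_rfl
      have hZq : ⁅⁅ZA, zpowers g⁆, zpowers g⁆ = ⊥ := by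
        rw [eq_bot_iff, ← hZBB]
        refine commutator_mono ?_ hgz
        rw [commutator_comm]
        exact (commutator_mono hgz le_rfl).trans hBZA
      have hcub : iterCommutator A (zpowers g) 3 ≤ ZA := by
        show ⁅⁅⁅A, zpowers g⁆, zpowers g⁆, zpowers g⁆ ≤ _
        have h4 : ⁅A, zpowers g⁆ ≤ B :=
          (commutator_mono le_rfl hgz).trans (commutator_le_of_le_normalizer hAB)
        have h5 : ⁅⁅A, zpowers g⁆, zpowers g⁆ ≤ centralizer (B : Set G) :=
          (commutator_mono h4 hgz).trans hB2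
        have h6 : ⁅⁅⁅A, zpowers g⁆, zpowers g⁆, zpowers g⁆ = ⊥ := by
          rw [commutator_eq_bot_iff_le_centralizer]
          exact h5.trans (centralizer_le hgz)
        rw [h6]
        exact bot_le
      by_cases hZ : ∃ U V : Subgroup G, IsChiefFactor U V ∧ U ≤ ZA ∧ ¬ ⁅U, zpowers g⁆ ≤ V
      · obtain ⟨U, V, hUV, hUZ, hUg⟩ := hZ
        refine ⟨g, hBS hg, hgT, hcub, hZq, U, V, hUV, hUZ.trans hZAA, ?_, hUg⟩
        have h4 := commutator_mono (commutator_mono hUZ (le_refl (zpowers g)))
          (le_refl (zpowers g))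
        rw [hZq] at h4
        exact h4.trans bot_le
      · push Not at hZ
        have hgL : g ∈ stabChief ZA := mem_stabChief.mpr hZ
        have hCn : (centralizer (ZA : Set G)).Normal := inferInstance
        have hLn : (stabChief ZA).Normal := stabChief_normal ZA
        have hAC : A ≤ centralizer (ZA : Set G) := by
          rw [hZA]
          exact le_centralizer_iff.mp inf_le_right
        have hCX : centralizer (ZA : Set G) ≤ normalizer (X : Set G) := by
          rw [hX, hZA]
          exact le_normalizer_critX_C hA B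
        have hq₀ : QuadChief (centralizer (ZA : Set G) ⊔ zpowers g) A (zpowers g) :=
          quadChief_base (X := X) hA.class2 (hAC.trans le_sup_left) le_sup_right
            (sup_le hCX (hgz.trans hBX)) hqX hquadA
        have hq₁ : QuadChief (stabChief ZA) A (zpowers g) :=
          quadChief_chain (p := p) (C := centralizer (ZA : Set G)) hA.class2
            (stabChief_pow_mem hZn hZAp) _ le_sup_left (hAC.trans le_sup_left) le_sup_right
            (sup_le (centralizer_le_stabChief ZA) (zpowers_le.mpr hgL)) hq₀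
        have hq₂ : QuadChief ⊤ A (zpowers g) :=
          quadChief_climb hA.class2 (hAC.trans (centralizer_le_stabChief ZA))
            (zpowers_le.mpr hgL) le_top (by rw [normalizer_eq_top]) hq₁
        exact ⟨g, hBS hg, hgT, hcub, hZq, chief_of_quadChief_top hA hgT hq₂⟩
    · -- `Z(B)` is not inside `O_p(G)`
      obtain ⟨g, hg, hgT⟩ := SetLike.not_le_iff_exists.mp hZBT
      have hgz : zpowers g ≤ ZB := by rwa [zpowers_le]
      have hq : ⁅⁅A, zpowers g⁆, zpowers g⁆ = ⊥ := by
        rw [eq_bot_iff, ← hZBab]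
        exact commutator_mono
          ((commutator_mono le_rfl hgz).trans (commutator_le_of_le_normalizer hAZB)) hgz
      obtain ⟨h1, h2, h3⟩ := good_of_quad hA hgT hq
      rw [← hZA] at h1 h2
      exact ⟨g, hBS ((hZB ▸ inf_le_left : ZB ≤ B) hg), hgT, h1, h2, h3⟩

end KChief2

end Cfsg.Agent.Lib.Helper49
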