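import Mathlib
import Cfsg.Agent.Lib.Helper49.KChief2

/-!
# Quadratic action on a chief factor and normalizer-`p`-stability of the quotient

`commutator_le_of_quotient_stable`: if `U/V` is a chief factor of the finite group `G` with `U`
a `p`-group, `g` acts quadratically on `U/V`, and `G ⧸ V` is `p`-stable in the normalizer form,
then `g` centralizes `U/V`.
-/

set_option autoImplicit false
open scoped commutatorElement

namespace Cfsg.Agent.Lib.Helper49

open Subgroup Cfsg Cfsg.Agent.Lib.Helper33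

universe u

section KChief3

variable {G : Type u} [Group G]

theorem commutator_le_of_quotient_stable [Finite G] {p : ℕ} [Fact p.Prime] {U V : Subgroup G}
    [hVn : V.Normal] (hUV : IsChiefFactor U V) (hUp : IsPGroup p U) (g : G)
    (hq : ⁅⁅U, zpowers g⁆, zpowers g⁆ ≤ V)
    (hst : Cfsg.IsNormalizerPStable p (G ⧸ V)) : ⁅U, zpowers g⁆ ≤ V := by
  classical
  obtain ⟨hlt, hUn, -, hmin⟩ := hUV
  haveI := hUn
  obtain ⟨π, hπ⟩ : ∃ π : G →* G ⧸ V, π = QuotientGroup.mk' V := ⟨_, rfl⟩
  have hπs : Function.Surjective π := by rw [hπ]; exact QuotientGroup.mk'_surjective V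
  have hπk : ∀ x : G, π x = 1 ↔ x ∈ V := by
    intro x; rw [hπ]; exact QuotientGroup.eq_one_iff x
  obtain ⟨P, hP⟩ : ∃ P : Subgroup (G ⧸ V), P = U.map π := ⟨_, rfl⟩
  haveI hPn : P.Normal := by rw [hP]; exact Subgroup.Normal.map hUn π hπs
  have hPp : IsPGroup p P := by rw [hP]; exact hUp.map π
  have hNP : normalizer (P : Set (G ⧸ V)) = ⊤ := normalizer_eq_top P
  have hgq : ⁅⁅P, zpowers (π g)⁆, zpowers (π g)⁆ = ⊥ := by
    rw [← MonoidHom.map_zpowers, hP, ← map_commutator, ← map_commutator, eq_bot_iff,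
      map_le_iff_le_comap]
    intro x hx
    rw [mem_comap, mem_bot]
    exact (hπk x).mpr (hq hx)
  obtain ⟨E, -, hEconj, hEpow, hEq⟩ := exists_stab_subgroup hst P hPp
  have hgE : π g ∈ E := hEq (π g) (by rw [hNP]; trivial) hgq
  haveI hEn : E.Normal := ⟨fun x hx n => hEconj n (by rw [hNP]; trivial) x hx⟩
  obtain ⟨F, hF⟩ : ∃ F : Subgroup (G ⧸ V), F = P ⊓ centralizer (E : Set (G ⧸ V)) := ⟨_, rfl⟩
  have hFn : F.Normal := by rw [hF]; infer_instance
  have hFne : F ≠ ⊥ := by
    have hEp : IsPGroup p ↥(E.map (MulAut.conjNormal (H := P))) := by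
      rintro ⟨_, x, hx, rfl⟩
      obtain ⟨k, hk⟩ := hEpow x hx
      refine ⟨k, ?_⟩
      apply Subtype.ext
      rw [Subgroup.coe_pow, Subgroup.coe_one, ← map_pow]
      ext y
      rw [MulAut.conjNormal_apply, MulAut.one_apply]
      have := mem_centralizer_iff.mp hk (y : G ⧸ V) y.2
      rw [← this, mul_inv_cancel_right]
    have hPne : P ≠ ⊥ := by
      obtain ⟨u, huU, huV⟩ := SetLike.exists_of_lt hlt
      intro h
      have : π u ∈ P := by rw [hP]; exact mem_map_of_mem π huU
      rw [h, mem_bot, hπk] at this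
      exact huV this
    have hcard : p ∣ Nat.card ↥P := by
      rcases hPp.card_eq_or_dvd with h | h
      · exact absurd (Subgroup.card_eq_one.mp h) hPne
      · exact h
    obtain ⟨b, hb, hb1⟩ := hEp.exists_fixed_point_of_prime_dvd_card_of_fixed_point
      (α := ↥P) hcard (a := 1) (by
        intro m
        rw [Subgroup.smul_def, MulAut.smul_def, map_one])
    intro hbot
    apply hb1
    have hbF : (b : G ⧸ V) ∈ F := by
      rw [hF]
      refine mem_inf.mpr ⟨b.2, ?_⟩
      rw [mem_centralizer_iff]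
      intro x hx
      have h1 := hb ⟨MulAut.conjNormal x, mem_map_of_mem _ hx⟩
      rw [Subgroup.smul_def, MulAut.smul_def] at h1
      have h2 := congrArg Subtype.val h1
      rw [MulAut.conjNormal_apply] at h2
      exact mul_inv_eq_iff_eq_mul.mp h2
    rw [hbot, mem_bot] at hbF
    exact (Subtype.ext hbF).symm
  have hFP : F = P := by
    have hVc : V ≤ F.comap π := by
      intro v hv
      rw [mem_comap, (hπk v).mpr hv]
      exact one_mem _
    have hcU : F.comap π ≤ U := by
      intro x hx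
      rw [mem_comap, hF] at hx
      have hx1 : π x ∈ U.map π := by rw [← hP]; exact hx.1
      obtain ⟨u, hu, hux⟩ := hx1
      have h1 : u⁻¹ * x ∈ V := by
        rw [← hπk, map_mul, map_inv, hux, inv_mul_cancel]
      have h2 : x = u * (u⁻¹ * x) := by group
      rw [h2]
      exact U.mul_mem hu (hlt.le h1)
    rcases hmin (F.comap π) (hFn.comap π) hVc hcU with h1 | h1
    · exfalso
      apply hFne
      rw [← map_comap_eq_self_of_surjective hπs F, h1, eq_bot_iff]
      rintro _ ⟨v, hv, rfl⟩
      rw [mem_bot]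
      exact (hπk v).mpr hv
    · rw [← map_comap_eq_self_of_surjective hπs F, h1, hP]
  have hPE : P ≤ centralizer (E : Set (G ⧸ V)) := by
    rw [← hFP, hF]; exact inf_le_right
  have h2 : ⁅P, zpowers (π g)⁆ = ⊥ := by
    rw [commutator_eq_bot_iff_le_centralizer]
    exact hPE.trans (centralizer_le (zpowers_le.mpr hgE))
  intro x hx
  have h3 : π x ∈ ⁅P, zpowers (π g)⁆ := by
    rw [← MonoidHom.map_zpowers, hP, ← map_commutator]
    exact mem_map_of_mem π hx
  rw [h2, mem_bot] at h3
  exact (hπk x).mp h3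

end KChief3

end Cfsg.Agent.Lib.Helper49
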