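import Mathlib
import Cfsg.Prelude.Def_CaseTheorems
import Cfsg.Agent.Lib.Helper49.KHom
import Cfsg.Agent.Lib.Helper49.KChief
import Cfsg.Agent.Lib.Helper54.ThmBAbelian
import Cfsg.Agent.Lib.Helper54.PStableOdd
import Cfsg.Agent.Lib.Helper33.Tr1
import Cfsg.Agent.Lib.Helper33.K4
import Cfsg.Agent.Lib.Helper48.Generation
import Cfsg.Agent.Lib.Helper11.QuadPair
import Cfsg.Agent.Lib.Helper69.CyclicSylow
import Cfsg.Agent.Lib.Helper63.PLength
import Cfsg.Agent.Lib.Helper61.Coprime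

/-!
# Abelian Hall–Higman for a maximal Sylow subgroup (helper49)

`no_small_chief_of_coatom`: if a Sylow `p`-subgroup `T` of `X` is a maximal subgroup,
`X / O_p(X)` has a normal `p`-complement, `g ∈ T ∖ O_p(X)` and `U / V` is a chief factor below
`O_p(X)` with `[U, g; p - 1] ≤ V`, then `[U, g] ≤ V`.
-/

set_option autoImplicit false
open scoped commutatorElement

namespace Cfsg.Agent.Lib.Helper49

open Subgroup Cfsg Cfsg.Agent.Lib.Helper33

universe u

section KHH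

/-- In an abelian `p'`-group `Q₁` normalized by `c` with `c ^ p` centralizing `Q₁`, the subgroup
`[Q₁, c]` is `c`-invariant and no `c ^ i` (`0 < i < p`) has a nontrivial fixed point in it. -/
theorem exists_fpf_subgroup {X : Type*} [Group X] {p : ℕ} (hp : p.Prime) (Q₁ : Subgroup X)
    (hab : ∀ s ∈ Q₁, ∀ t ∈ Q₁, s * t = t * s) (c : X)
    (hc : ∀ s ∈ Q₁, c * s * c⁻¹ ∈ Q₁) (hcp : ∀ s ∈ Q₁, c ^ p * s = s * c ^ p)
    (hcop : ∀ s ∈ Q₁, s ^ p = 1 → s = 1) (s₀ : X) (hs₀ : s₀ ∈ Q₁) (hne : c * s₀ ≠ s₀ * c) :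
    ∃ R : Subgroup X, R ≤ Q₁ ∧ R ≠ ⊥ ∧ (∀ r ∈ R, ∀ i : ℕ, c ^ i * r * (c ^ i)⁻¹ ∈ R) ∧
      ∀ i, 0 < i → i < p → ∀ r ∈ R, r * c ^ i = c ^ i * r → r = 1 := by
  have hmemθ : ∀ s ∈ Q₁, s⁻¹ * (c * s * c⁻¹) ∈ Q₁ := fun s hs =>
    Q₁.mul_mem (Q₁.inv_mem hs) (hc s hs)
  let R : Subgroup X :=
    { carrier := {r | ∃ s ∈ Q₁, r = s⁻¹ * (c * s * c⁻¹)}
      one_mem' := ⟨1, Q₁.one_mem, by group⟩
      mul_mem' := by
        rintro _ _ ⟨s, hs, rfl⟩ ⟨t, ht, rfl⟩
        refine ⟨s * t, Q₁.mul_mem hs ht, ?_⟩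
        have h1 := hab _ (hmemθ s hs) _ (Q₁.inv_mem ht)
        calc s⁻¹ * (c * s * c⁻¹) * (t⁻¹ * (c * t * c⁻¹))
            = (s⁻¹ * (c * s * c⁻¹) * t⁻¹) * (c * t * c⁻¹) := by group
          _ = (t⁻¹ * (s⁻¹ * (c * s * c⁻¹))) * (c * t * c⁻¹) := by rw [h1]
          _ = (s * t)⁻¹ * (c * (s * t) * c⁻¹) := by group
      inv_mem' := by
        rintro _ ⟨s, hs, rfl⟩
        refine ⟨s⁻¹, Q₁.inv_mem hs, ?_⟩
        have h1 := hab _ (Q₁.inv_mem (hc s hs)) _ hs
        calc (s⁻¹ * (c * s * c⁻¹))⁻¹ = (c * s * c⁻¹)⁻¹ * s := by group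
          _ = s * (c * s * c⁻¹)⁻¹ := h1
          _ = s⁻¹⁻¹ * (c * s⁻¹ * c⁻¹) := by group }
  have hRmem : ∀ r, r ∈ R ↔ ∃ s ∈ Q₁, r = s⁻¹ * (c * s * c⁻¹) := fun r => Iff.rfl
  have hRQ : R ≤ Q₁ := by
    rintro _ ⟨s, hs, rfl⟩
    exact hmemθ s hs
  have hRc : ∀ r ∈ R, c * r * c⁻¹ ∈ R := by
    rintro _ ⟨s, hs, rfl⟩
    refine ⟨c * s * c⁻¹, hc s hs, ?_⟩
    group
  refine ⟨R, hRQ, ?_, fun r hr i => Cfsg.Agent.Lib.Helper54.conj_pow_mem_of_conj_mem R c hRc i r hr, ?_⟩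
  · intro hbot
    have h1 : s₀⁻¹ * (c * s₀ * c⁻¹) ∈ R := ⟨s₀, hs₀, rfl⟩
    rw [hbot, mem_bot] at h1
    apply hne
    have h2 : c * s₀ * c⁻¹ = s₀ := by
      calc c * s₀ * c⁻¹ = s₀ * (s₀⁻¹ * (c * s₀ * c⁻¹)) := by group
        _ = s₀ := by rw [h1, mul_one]
    calc c * s₀ = (c * s₀ * c⁻¹) * c := by group
      _ = s₀ * c := by rw [h2]
  · rintro i hi0 hip r ⟨s, hs, rfl⟩ hcomm
    obtain ⟨r, hr⟩ : ∃ r : X, r = s⁻¹ * (c * s * c⁻¹) := ⟨_, rfl⟩
    rw [← hr] at hcomm ⊢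
    have hrQ : r ∈ Q₁ := by rw [hr]; exact hmemθ s hs
    -- `r` commutes with `c`
    have hcop' : Nat.Coprime i p :=
      ((Nat.Prime.coprime_iff_not_dvd hp).mpr (Nat.not_dvd_of_pos_of_lt hi0 hip)).symm
    obtain ⟨m, -, hm⟩ := Nat.exists_mul_mod_eq_one_of_coprime hcop' hp.one_lt
    have hrc : Commute r c := by
      have h1 : Commute r (c ^ (i * m)) := by
        rw [pow_mul]; exact (show Commute r (c ^ i) from hcomm).pow_right m
      have h2 : Commute r (c ^ p) := (hcp r hrQ).symm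
      have h3 : c ^ (i * m) = (c ^ p) ^ (i * m / p) * c := by
        rw [← pow_mul, ← pow_succ]
        congr 1
        have := Nat.div_add_mod (i * m) p
        omega
      have h4 : c = ((c ^ p) ^ (i * m / p))⁻¹ * c ^ (i * m) := by rw [h3]; group
      rw [h4]
      exact ((h2.pow_right _).inv_right).mul_right h1
    have hsr : c * s * c⁻¹ = s * r := by rw [hr]; group
    have hcr : c * r * c⁻¹ = r := by
      have : c * r = r * c := hrc.eq.symm
      rw [this]; group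
    have key : ∀ n : ℕ, c ^ n * s * (c ^ n)⁻¹ = s * r ^ n := by
      intro n
      induction n with
      | zero => simp
      | succ n ih =>
        calc c ^ (n + 1) * s * (c ^ (n + 1))⁻¹ = c * (c ^ n * s * (c ^ n)⁻¹) * c⁻¹ := by
              rw [pow_succ']; group
          _ = c * (s * r ^ n) * c⁻¹ := by rw [ih]
          _ = (c * s * c⁻¹) * (c * r * c⁻¹) ^ n := by rw [conj_pow]; group
          _ = s * r ^ (n + 1) := by rw [hsr, hcr, pow_succ', mul_assoc]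
    have h5 := key p
    have h6 : c ^ p * s * (c ^ p)⁻¹ = s := by rw [hcp s hs]; group
    rw [h6] at h5
    have h7 : r ^ p = 1 := by
      have := congrArg (fun t => s⁻¹ * t) h5
      simpa using this.symm
    exact hcop r hrQ h7

/-- If a Sylow `p`-subgroup `T` is a maximal subgroup, every normal subgroup not inside `O_p`
joins `T` to the whole group. -/
theorem sup_eq_top_of_coatom_sylow {X : Type*} [Group X] {p : ℕ} [Fact p.Prime]
    (T : Sylow p X) (hT : IsCoatom (T : Subgroup X)) (C : Subgroup X) (hCn : C.Normal)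
    (hCQ : ¬ C ≤ Cfsg.pCore p X) : (T : Subgroup X) ⊔ C = ⊤ := by
  by_contra hne
  have h1 : (T : Subgroup X) ⊔ C = T := by
    by_contra h2
    exact hne (hT.2 _ (lt_of_le_of_ne le_sup_left (Ne.symm h2)))
  have h3 : C ≤ (T : Subgroup X) := by rw [← h1]; exact le_sup_right
  exact hCQ (Cfsg.Agent.Lib.Helper63.le_pCore' hCn (T.isPGroup'.to_le h3))

/-- With a maximal Sylow `p`-subgroup: if a normal subgroup not inside `O_p` centralizes a chief
factor below `O_p`, the whole group does. -/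
theorem commutator_top_le_of_coatom {X : Type*} [Group X] [Finite X] {p : ℕ} [Fact p.Prime]
    (T : Sylow p X) (hT : IsCoatom (T : Subgroup X)) {U V : Subgroup X}
    (hUV : Cfsg.IsChiefFactor U V) (hUQ : U ≤ Cfsg.pCore p X) (C : Subgroup X) (hCn : C.Normal)
    (hC : ⁅U, C⁆ ≤ V) (hCQ : ¬ C ≤ Cfsg.pCore p X) : ⁅U, (⊤ : Subgroup X)⁆ ≤ V := by
  obtain ⟨hlt, hUn, hVn, hmin⟩ := hUV
  have := hUn
  have := hVn
  have hTC := sup_eq_top_of_coatom_sylow T hT C hCn hCQ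
  have hUT : U ≤ (T : Subgroup X) := hUQ.trans (Cfsg.Agent.Lib.Helper63.pCore_le_sylow' p T)
  have hMU : ⁅U, (T : Subgroup X)⁆ ⊔ V ≤ U := sup_le (Subgroup.commutator_le_left U _) hlt.le
  have hMn : (⁅U, (T : Subgroup X)⁆ ⊔ V).Normal := by
    rw [← Subgroup.normalizer_eq_top_iff, eq_top_iff, ← hTC]
    apply sup_le
    · apply le_normalizer_sup
      · refine le_trans ?_ (Cfsg.Agent.Lib.Helper61.normalizer_inf_le_normalizer_commutator U T)
        refine le_inf ?_ Subgroup.le_normalizer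
        rw [Subgroup.normalizer_eq_top_iff.mpr hUn]
        exact le_top
      · rw [Subgroup.normalizer_eq_top_iff.mpr hVn]
        exact le_top
    · intro c hc
      apply Cfsg.Agent.Lib.Helper54.mem_normalizer_of_conj_mem
      intro m hm
      have h1 : ⁅c, m⁆ ∈ V := by
        have h0 : ⁅c, m⁆ ∈ ⁅C, U⁆ := Subgroup.commutator_mem_commutator hc (hMU hm)
        rw [Subgroup.commutator_comm] at h0
        exact hC h0
      have h2 : c * m * c⁻¹ = ⁅c, m⁆ * m := by rw [commutatorElement_def]; group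
      rw [h2]
      exact Subgroup.mul_mem _ (Subgroup.mem_sup_right h1) hm
  rcases hmin _ hMn le_sup_right hMU with h1 | h1
  · have hT' : (T : Subgroup X) ≤ centMod U V :=
      (le_centMod_iff hVn).mpr (by rw [← h1]; exact le_sup_left)
    have hC' : C ≤ centMod U V := (le_centMod_iff hVn).mpr hC
    have h3 : (⊤ : Subgroup X) ≤ centMod U V := by rw [← hTC]; exact sup_le hT' hC'
    exact (le_centMod_iff hVn).mp h3
  · exfalso
    obtain ⟨m, hm⟩ := exists_iterCommutator_eq_bot (T.isPGroup'.isNilpotent) hUT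
    have key : ∀ n : ℕ, U ≤ iterCommutator U (T : Subgroup X) n ⊔ V := by
      intro n
      induction n with
      | zero => exact le_sup_left
      | succ n ih =>
        have h2 : ⁅U, (T : Subgroup X)⁆ ≤ ⁅iterCommutator U (T : Subgroup X) n ⊔ V, (T : Subgroup X)⁆ :=
          Subgroup.commutator_mono ih le_rfl
        have h3 : ⁅iterCommutator U (T : Subgroup X) n ⊔ V, (T : Subgroup X)⁆ ≤
            ⁅iterCommutator U (T : Subgroup X) n, (T : Subgroup X)⁆ ⊔ V :=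
          iterCommutator_sup_le (P := iterCommutator U (T : Subgroup X) n) (V := V)
            (C := (T : Subgroup X)) 1
        calc U = ⁅U, (T : Subgroup X)⁆ ⊔ V := h1.symm
          _ ≤ (⁅iterCommutator U (T : Subgroup X) n, (T : Subgroup X)⁆ ⊔ V) ⊔ V :=
              sup_le_sup_right (h2.trans h3) V
          _ = ⁅iterCommutator U (T : Subgroup X) n, (T : Subgroup X)⁆ ⊔ V := by rw [sup_assoc, sup_idem]
    have h4 := key m
    rw [hm, bot_sup_eq] at h4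
    exact absurd h4 (not_le_of_gt hlt)

/-- With a maximal Sylow `p`-subgroup `T` and `X / O_p(X)` `p`-nilpotent, every `q`-subgroup
(`q ≠ p`) of `X` is abelian. -/
theorem comm_of_coatom_sylow {X : Type u} [Group X] [Finite X] {p : ℕ} [Fact p.Prime]
    (T : Sylow p X) (hT : IsCoatom (T : Subgroup X))
    (hnpc : Cfsg.HasNormalPComplement p (X ⧸ Cfsg.pCore p X))
    {q : ℕ} [Fact q.Prime] (hqp : q ≠ p) (Q₁ : Subgroup X) (hQ₁ : IsPGroup q Q₁) :
    ∀ s ∈ Q₁, ∀ t ∈ Q₁, s * t = t * s := by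
  classical
  have hp : p.Prime := Fact.out
  obtain ⟨P, N, hNn, hcompl⟩ := hnpc
  have := hNn
  obtain ⟨π, hπ⟩ : ∃ π : X →* X ⧸ Cfsg.pCore p X, π = QuotientGroup.mk' (Cfsg.pCore p X) :=
    ⟨_, rfl⟩
  have hπs : Function.Surjective π := by rw [hπ]; exact QuotientGroup.mk'_surjective _
  have hπk : ∀ x : X, π x = 1 ↔ x ∈ Cfsg.pCore p X := by
    intro x; rw [hπ]; exact QuotientGroup.eq_one_iff x
  have hQT : Cfsg.pCore p X ≤ (T : Subgroup X) := Cfsg.Agent.Lib.Helper63.pCore_le_sylow' p T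
  obtain ⟨Tb, hTb⟩ : ∃ Tb : Subgroup (X ⧸ Cfsg.pCore p X), Tb = (T : Subgroup X).map π :=
    ⟨_, rfl⟩
  have hTbp : IsPGroup p Tb := by rw [hTb]; exact T.isPGroup'.map π
  have hNcard : ¬ p ∣ Nat.card N := by
    rw [← hcompl.index_eq_card]
    exact Sylow.not_dvd_index P
  have hNT : N ⊓ Tb = ⊥ := by
    apply Disjoint.eq_bot
    apply Subgroup.disjoint_of_coprime_natCard
    obtain ⟨k, hk⟩ := IsPGroup.iff_card.mp hTbp
    rw [hk]
    exact Nat.Coprime.pow_right k ((Nat.Prime.coprime_iff_not_dvd hp).mpr hNcard).symm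
  have hcomapT : Tb.comap π = (T : Subgroup X) := by
    rw [hTb, Subgroup.comap_map_eq, hπ, QuotientGroup.ker_mk', sup_eq_left.mpr hQT]
  have key : ∀ M : Subgroup (X ⧸ Cfsg.pCore p X), M ≤ N → M ≠ ⊥ →
      Tb ≤ Subgroup.normalizer (M : Set (X ⧸ Cfsg.pCore p X)) → N ≤ M := by
    intro M hMN hM hTM
    have h1 : Tb ⊔ M = ⊤ := by
      have h2 : (T : Subgroup X) ≤ (Tb ⊔ M).comap π := by
        rw [← hcomapT]; exact Subgroup.comap_mono le_sup_left
      by_cases h3 : (Tb ⊔ M).comap π = (T : Subgroup X)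
      · exfalso
        apply hM
        have h4 : M ≤ Tb := by
          have h5 : Tb ⊔ M = Tb := by
            rw [← Subgroup.map_comap_eq_self_of_surjective hπs (Tb ⊔ M), h3, hTb]
          rw [← h5]; exact le_sup_right
        rw [eq_bot_iff, ← hNT]
        exact le_inf hMN h4
      · have h4 := hT.2 _ (lt_of_le_of_ne h2 (Ne.symm h3))
        rw [← Subgroup.map_comap_eq_self_of_surjective hπs (Tb ⊔ M), h4]
        exact Subgroup.map_top_of_surjective π hπs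
    intro n hn
    have h2 : n ∈ ((Tb ⊔ M : Subgroup (X ⧸ Cfsg.pCore p X)) : Set (X ⧸ Cfsg.pCore p X)) := by
      rw [h1]; exact Subgroup.mem_top n
    rw [Subgroup.coe_mul_of_left_le_normalizer_right Tb M hTM] at h2
    obtain ⟨t, ht, m, hm, rfl⟩ := Set.mem_mul.mp h2
    have h3 : t ∈ N ⊓ Tb := by
      refine ⟨?_, ht⟩
      have h4 : t = (t * m) * m⁻¹ := by group
      rw [h4]
      exact N.mul_mem hn (N.inv_mem (hMN hm))
    rw [hNT, Subgroup.mem_bot] at h3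
    rw [h3, one_mul]
    exact hm
  have hNab : ⁅N, N⁆ = ⊥ := by
    by_cases hN1 : N = ⊥
    · rw [hN1, Subgroup.commutator_bot_left]
    obtain ⟨q', hq', hq'N⟩ : ∃ q' : ℕ, q'.Prime ∧ q' ∣ Nat.card N := by
      apply Nat.exists_prime_and_dvd
      intro h
      exact hN1 (Subgroup.card_eq_one.mp h)
    have : Fact q'.Prime := ⟨hq'⟩
    have hTN : Tb ≤ Subgroup.normalizer (N : Set (X ⧸ Cfsg.pCore p X)) := by
      rw [Subgroup.normalizer_eq_top_iff.mpr hNn]; exact le_top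
    obtain ⟨S, hS⟩ := Cfsg.Agent.Lib.Helper48.exists_invariant_sylow N Tb hTbp hNcard hTN q'
    have hSne : ((S : Subgroup N).map N.subtype) ≠ ⊥ := by
      intro h
      have h1 : (S : Subgroup N) = ⊥ := by
        rw [← Subgroup.map_eq_bot_iff_of_injective _ N.subtype_injective]
        exact h
      exact Sylow.ne_bot_of_dvd_card S hq'N h1
    have hNS : N ≤ (S : Subgroup N).map N.subtype := key _ (Subgroup.map_subtype_le _) hSne hS
    have hNq : IsPGroup q' N := (S.isPGroup'.map N.subtype).to_le hNS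
    by_contra hne
    have hcn : (⁅N, N⁆).Normal := inferInstance
    have h1 : N ≤ ⁅N, N⁆ := key _ (Subgroup.commutator_le_left N N) hne (by
      rw [Subgroup.normalizer_eq_top_iff.mpr hcn]; exact le_top)
    have h2 : ⁅N, N⁆ = N := le_antisymm (Subgroup.commutator_le_left N N) h1
    have : Group.IsNilpotent N := hNq.isNilpotent
    have : Nontrivial N := (Subgroup.nontrivial_iff_ne_bot N).mpr hN1
    have h3 := Group.IsSolvable.commutator_lt_top_of_nontrivial (G := N)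
    have h4 : (commutator N).map N.subtype = ⁅N, N⁆ := Subgroup.map_subtype_commutator N
    rw [h2] at h4
    have h5 : commutator N = ⊤ := by
      apply Subgroup.map_injective N.subtype_injective
      rw [h4, ← MonoidHom.range_eq_map, Subgroup.range_subtype]
    exact h3.ne h5
  have hquotp : IsPGroup p ((X ⧸ Cfsg.pCore p X) ⧸ N) := by
    have h1 : N.index = Nat.card P := hcompl.symm.index_eq_card
    obtain ⟨k, hk⟩ := IsPGroup.iff_card.mp P.isPGroup'
    exact IsPGroup.of_card (n := k) (by rw [← Subgroup.index_eq_card, h1, hk])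
  have hmemN : ∀ x ∈ Q₁, π x ∈ N := by
    intro x hx
    rw [← QuotientGroup.eq_one_iff (N := N)]
    obtain ⟨k, hk⟩ := hQ₁ ⟨x, hx⟩
    have hk' : x ^ q ^ k = 1 := congrArg Subtype.val hk
    obtain ⟨j, hj⟩ := hquotp (QuotientGroup.mk (π x))
    have h1 : (QuotientGroup.mk (π x) : (X ⧸ Cfsg.pCore p X) ⧸ N) ^ q ^ k = 1 := by
      rw [← QuotientGroup.mk_pow, ← map_pow, hk', map_one, QuotientGroup.mk_one]
    have h2 := orderOf_dvd_of_pow_eq_one h1
    have h3 := orderOf_dvd_of_pow_eq_one hj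
    have hc : Nat.Coprime (q ^ k) (p ^ j) :=
      Nat.Coprime.pow k j ((Nat.coprime_primes Fact.out hp).mpr hqp)
    have h4 := Nat.dvd_gcd h2 h3
    rw [hc.gcd_eq_one, Nat.dvd_one] at h4
    exact orderOf_eq_one_iff.mp h4
  intro s hs t ht
  have h1 : ⁅π s, π t⁆ ∈ ⁅N, N⁆ := Subgroup.commutator_mem_commutator (hmemN s hs) (hmemN t ht)
  rw [hNab, Subgroup.mem_bot, ← map_commutatorElement, hπk] at h1
  have h2 : ⁅s, t⁆ ∈ Q₁ := by
    rw [commutatorElement_def]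
    exact Q₁.mul_mem (Q₁.mul_mem (Q₁.mul_mem hs ht) (Q₁.inv_mem hs)) (Q₁.inv_mem ht)
  have hdisj := IsPGroup.disjoint_of_ne q p hqp Q₁ (Cfsg.pCore p X) hQ₁
    (Cfsg.Agent.Lib.Helper63.pCore_isPGroup' p X)
  have h3 : ⁅s, t⁆ = 1 := by
    have h4 := hdisj.le_bot (Subgroup.mem_inf.mpr ⟨h2, h1⟩)
    exact (Subgroup.mem_bot).mp h4
  exact commutatorElement_eq_one_iff_mul_comm.mp h3

/-- **Abelian Hall–Higman with a maximal Sylow subgroup.**  If a Sylow `p`-subgroup `T` of `X`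
is a maximal subgroup, `X / O_p(X)` has a normal `p`-complement, `g ∈ T ∖ O_p(X)` and `U / V` is
a chief factor below `O_p(X)` with `[U, g; p - 1] ≤ V`, then `[U, g] ≤ V`. -/
theorem no_small_chief_of_coatom {X : Type u} [Group X] [Finite X] {p : ℕ} [Fact p.Prime]
    (T : Sylow p X) (hT : IsCoatom (T : Subgroup X))
    (hnpc : Cfsg.HasNormalPComplement p (X ⧸ Cfsg.pCore p X))
    (g : X) (hgT : g ∈ (T : Subgroup X)) (hgQ : g ∉ Cfsg.pCore p X)
    {U V : Subgroup X} (hUV : Cfsg.IsChiefFactor U V) (hUQ : U ≤ Cfsg.pCore p X)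
    (hq : Cfsg.iterCommutator U (Subgroup.zpowers g) (p - 1) ≤ V) :
    ⁅U, Subgroup.zpowers g⁆ ≤ V := by
  classical
  by_contra hnot
  have hp : p.Prime := Fact.out
  obtain ⟨hlt, hUn, hVn, hmin⟩ := id hUV
  have := hUn
  have := hVn
  obtain ⟨Q, hQdef⟩ : ∃ Q : Subgroup X, Q = Cfsg.pCore p X := ⟨_, rfl⟩
  have hQn : Q.Normal := by rw [hQdef]; infer_instance
  rw [← hQdef] at hgQ hUQ
  have hQp : IsPGroup p Q := by rw [hQdef]; exact Cfsg.Agent.Lib.Helper63.pCore_isPGroup' p X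
  have hUp : IsPGroup p U := hQp.to_le hUQ
  obtain ⟨hcomm, hexp⟩ := chiefFactor_elemAb hUV hUp
  have hUQV : ⁅U, Q⁆ ≤ V := chief_commutator_le hQn hQp.isNilpotent hUV hUQ
  -- the element `h`
  obtain ⟨k0, hk0⟩ := T.isPGroup' ⟨g, hgT⟩
  have hk0' : g ^ p ^ k0 = 1 := congrArg Subtype.val hk0
  have hex : ∃ k, g ^ p ^ k ∈ Q := ⟨k0, by rw [hk0']; exact Q.one_mem⟩
  obtain ⟨k, hk, hkmin⟩ : ∃ k, g ^ p ^ k ∈ Q ∧ ∀ j < k, g ^ p ^ j ∉ Q :=
    ⟨Nat.find hex, Nat.find_spec hex, fun j hj => Nat.find_min hex hj⟩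
  have hk1 : k ≠ 0 := by
    rintro rfl
    apply hgQ
    simpa using hk
  obtain ⟨k', rfl⟩ := Nat.exists_eq_succ_of_ne_zero hk1
  obtain ⟨h, hh⟩ : ∃ h : X, h = g ^ p ^ k' := ⟨_, rfl⟩
  have hhQ : h ∉ Q := by rw [hh]; exact hkmin k' (Nat.lt_succ_self k')
  have hhp : h ^ p ∈ Q := by rw [hh, ← pow_mul, ← pow_succ]; exact hk
  have hhq : iterCommutator U (Subgroup.zpowers h) (p - 1) ≤ V := by
    refine (iterCommutator_mono_right ?_ (p - 1)).trans hq
    rw [Subgroup.zpowers_le, hh]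
    exact Subgroup.pow_mem _ (Subgroup.mem_zpowers g) _
  -- `p`-solvability
  have hsol : Cfsg.IsPSolvable p X := by
    obtain ⟨P, N, hNn, hcompl⟩ := hnpc
    have h1 : Cfsg.IsPSolvable p (X ⧸ Cfsg.pCore p X) := by
      apply Cfsg.Agent.Lib.Helper11.isPSolvable_of_normal_pPrime N hNn
      · rw [← hcompl.index_eq_card]
        exact ((Nat.Prime.coprime_iff_not_dvd hp).mpr (Sylow.not_dvd_index P)).symm
      · rw [hcompl.symm.index_eq_card]
        exact IsPGroup.iff_card.mp P.isPGroup'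
    refine Cfsg.Agent.Lib.Helper69.isPSolvable_of_quotient p (Cfsg.pCore p X)
      (Or.inl (IsPGroup.iff_card.mp ?_)) h1
    rw [← hQdef]; exact hQp
  obtain ⟨q, hqprime, Q₁, n, hqp, hQ₁q, hnQ, hbQ₁, s₀, hs₀, hs₀'⟩ :=
    Cfsg.Agent.Lib.Helper54.exists_normalizing_q_group_pow hsol Q hQp (by rw [hQdef]) h 1 1
      (by simpa using hhp) (by simpa using hhQ)
  have : Fact q.Prime := ⟨hqprime⟩
  obtain ⟨b, hb⟩ : ∃ b : X, b = n * h := ⟨_, rfl⟩
  rw [← hb] at hbQ₁ hs₀'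
  rw [pow_one] at hs₀'
  have hdisj : Disjoint Q₁ Q := IsPGroup.disjoint_of_ne q p hqp Q₁ Q hQ₁q hQp
  have hbp : b ^ p ∈ Q := by
    rw [← QuotientGroup.eq_one_iff, QuotientGroup.mk_pow, hb, QuotientGroup.mk_mul,
      (QuotientGroup.eq_one_iff n).mpr hnQ, one_mul, ← QuotientGroup.mk_pow,
      QuotientGroup.eq_one_iff]
    exact hhp
  have hbc : ∀ s ∈ Q₁, b * s * b⁻¹ ∈ Q₁ := fun s hs => (Subgroup.mem_normalizer_iff.1 hbQ₁ s).1 hs
  have hbci := Cfsg.Agent.Lib.Helper54.conj_pow_mem_of_conj_mem Q₁ b hbc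
  have hbpc : ∀ s ∈ Q₁, b ^ p * s = s * b ^ p := by
    intro s hs
    apply commutatorElement_eq_one_iff_mul_comm.mp
    have h1 : ⁅b ^ p, s⁆ ∈ Q₁ := by
      rw [commutatorElement_def]
      exact Q₁.mul_mem (hbci p s hs) (Q₁.inv_mem hs)
    have h2 : ⁅b ^ p, s⁆ ∈ Q := by
      rw [commutatorElement_def]
      have h3 : b ^ p * s * (b ^ p)⁻¹ * s⁻¹ = b ^ p * (s * (b ^ p)⁻¹ * s⁻¹) := by group
      rw [h3]
      exact Q.mul_mem hbp (hQn.conj_mem _ (Q.inv_mem hbp) s)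
    exact (Subgroup.mem_bot).mp (hdisj.le_bot (Subgroup.mem_inf.mpr ⟨h1, h2⟩))
  have hab := comm_of_coatom_sylow T hT hnpc hqp Q₁ hQ₁q
  have hcop : ∀ s ∈ Q₁, s ^ p = 1 → s = 1 := by
    intro s hs hsp
    obtain ⟨j, hj⟩ := hQ₁q ⟨s, hs⟩
    have hj' : s ^ q ^ j = 1 := congrArg Subtype.val hj
    have h2 := orderOf_dvd_of_pow_eq_one hj'
    have h3 := orderOf_dvd_of_pow_eq_one hsp
    have hc : Nat.Coprime (q ^ j) p :=
      Nat.Coprime.pow_left j ((Nat.coprime_primes hqprime hp).mpr hqp)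
    have h4 := Nat.dvd_gcd h2 h3
    rw [hc.gcd_eq_one, Nat.dvd_one] at h4
    exact orderOf_eq_one_iff.mp h4
  obtain ⟨R, hRQ₁, hRne, hRinv, hRfix⟩ :=
    exists_fpf_subgroup hp Q₁ hab b hbc hbpc hcop s₀ hs₀ hs₀'
  -- pass to `X ⧸ V`
  obtain ⟨π, hπ⟩ : ∃ π : X →* X ⧸ V, π = QuotientGroup.mk' V := ⟨_, rfl⟩
  have hπs : Function.Surjective π := by rw [hπ]; exact QuotientGroup.mk'_surjective V
  have hπk : ∀ x : X, π x = 1 ↔ x ∈ V := by
    intro x; rw [hπ]; exact QuotientGroup.eq_one_iff x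
  obtain ⟨P, hP⟩ : ∃ P : Subgroup (X ⧸ V), P = U.map π := ⟨_, rfl⟩
  have hPn : P.Normal := by rw [hP]; exact Subgroup.Normal.map hUn π hπs
  have hPmem : ∀ y ∈ P, ∃ x ∈ U, π x = y := by
    intro y hy
    rw [hP] at hy
    exact hy
  have hPab : ∀ x ∈ P, ∀ y ∈ P, x * y = y * x := by
    rw [hP]
    rintro _ ⟨u, hu, rfl⟩ _ ⟨u', hu', rfl⟩
    apply commutatorElement_eq_one_iff_mul_comm.mp
    rw [← map_commutatorElement, hπk]
    exact hcomm (Subgroup.commutator_mem_commutator hu hu')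
  have hPexp : ∀ x ∈ P, x ^ p = 1 := by
    rw [hP]
    rintro _ ⟨u, hu, rfl⟩
    rw [← map_pow, hπk]
    exact hexp u hu
  letI : CommGroup ↥P :=
    { (inferInstance : Group ↥P) with mul_comm := fun x y => Subtype.ext (hPab x x.2 y y.2) }
  letI : MulDistribMulAction (X ⧸ V) ↥P :=
    MulDistribMulAction.compHom ↥P (MulAut.conjNormal : (X ⧸ V) →* MulAut ↥P)
  have hsmul : ∀ (y : X ⧸ V) (u : ↥P), ((y • u : ↥P) : X ⧸ V) = y * u * y⁻¹ := fun _ _ => rfl
  obtain ⟨ψ, hψdef⟩ : ∃ ψ : ↥U →* ↥P, ∀ x : ↥U, ((ψ x : ↥P) : X ⧸ V) = π x :=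
    ⟨(π.comp U.subtype).codRestrict P (fun x => by
      rw [hP]; exact Subgroup.mem_map_of_mem π x.2), fun x => rfl⟩
  have hψ : ∀ x : ↥U, (x : X) ∈ V → ψ x = 1 := by
    intro x hx
    apply Subtype.ext
    rw [hψdef, Subgroup.coe_one, hπk]
    exact hx
  have hnorm_h : ∀ x (hx : x ∈ U),
      ∏ j ∈ Finset.range p, ψ ⟨h ^ j * x * (h ^ j)⁻¹, hUn.conj_mem x hx _⟩ = 1 := by
    intro x hx
    have h0 := prod_conj_eq_one hUn hVn hcomm hexp hhq ψ hψ 1 one_ne_zero x hx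
    rwa [pow_one] at h0
  have hφn : (MulAut.conjNormal (π n) : MulAut ↥P) = 1 := by
    apply MulEquiv.ext
    intro u
    apply Subtype.ext
    rw [MulAut.conjNormal_apply, MulAut.one_apply]
    obtain ⟨x, hx, hxu⟩ := hPmem u u.2
    rw [← hxu, ← map_inv, ← map_mul, ← map_mul]
    have h1 : ⁅n, x⁆ ∈ V := by
      have h0 : ⁅n, x⁆ ∈ ⁅Q, U⁆ := Subgroup.commutator_mem_commutator hnQ hx
      rw [Subgroup.commutator_comm] at h0
      exact hUQV h0
    have h2 : n * x * n⁻¹ = ⁅n, x⁆ * x := by rw [commutatorElement_def]; group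
    rw [h2, map_mul, (hπk _).mpr h1, one_mul]
  have hact : ∀ (i : ℕ) (u : ↥P), (π b) ^ i • u = (π h) ^ i • u := by
    intro i u
    show (MulAut.conjNormal ((π b) ^ i) : MulAut ↥P) u =
      (MulAut.conjNormal ((π h) ^ i) : MulAut ↥P) u
    rw [map_pow, map_pow, hb, map_mul, map_mul, hφn, one_mul]
  have hN : ∀ u : ↥P, ∏ i ∈ Finset.range p, (π b) ^ i • u = 1 := by
    intro u
    obtain ⟨x, hx, hxu⟩ := hPmem u u.2
    rw [← hnorm_h x hx]
    apply Finset.prod_congr rfl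
    intro i _
    rw [hact]
    apply Subtype.ext
    rw [hsmul, hψdef, ← hxu]
    simp only [map_mul, map_pow, map_inv]
  have hR' : ∀ r ∈ R.map π, ∀ i : ℕ, (π b) ^ i * r * ((π b) ^ i)⁻¹ ∈ R.map π := by
    rintro _ ⟨r, hr, rfl⟩ i
    refine ⟨b ^ i * r * (b ^ i)⁻¹, hRinv r hr i, ?_⟩
    simp only [map_mul, map_pow, map_inv]
  have hVR : ∀ x, x ∈ V → x ∈ R → x = 1 := by
    intro x hxV hxR
    exact (Subgroup.mem_bot).mp
      (hdisj.le_bot (Subgroup.mem_inf.mpr ⟨hRQ₁ hxR, hUQ (hlt.le hxV)⟩))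
  have hfix' : ∀ i, 0 < i → i < p → ∀ r ∈ R.map π, r * (π b) ^ i = (π b) ^ i * r → r = 1 := by
    rintro i hi0 hip _ ⟨r, hr, rfl⟩ hcomm'
    have h1 : b ^ i * r * (b ^ i)⁻¹ * r⁻¹ ∈ V := by
      rw [← hπk]
      simp only [map_mul, map_pow, map_inv]
      rw [← hcomm']
      group
    have h2 : b ^ i * r * (b ^ i)⁻¹ * r⁻¹ ∈ R := R.mul_mem (hRinv r hr i) (R.inv_mem hr)
    have h3 := hVR _ h1 h2
    have h4 : r * b ^ i = b ^ i * r := by
      have h5 : b ^ i * r = (b ^ i * r * (b ^ i)⁻¹ * r⁻¹) * (r * b ^ i) := by group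
      rw [h5, h3, one_mul]
    rw [hRfix i hi0 hip r hr h4, map_one]
  have hfro := fun w : ↥P => Cfsg.Agent.Lib.Helper54.frobenius_norm_smul (H := X ⧸ V) (W := ↥P)
    (R.map π) (π b) p hp.pos hR' hfix' hN w
  have hRq : IsPGroup q (R.map π) := (hQ₁q.to_le hRQ₁).map π
  obtain ⟨j, hj⟩ := IsPGroup.iff_card.mp hRq
  have hcopc : Nat.Coprime (Nat.card (R.map π)) p := by
    rw [hj]
    exact Nat.Coprime.pow_left j ((Nat.coprime_primes hqprime hp).mpr hqp)
  obtain ⟨m, -, hm⟩ := Nat.exists_mul_mod_eq_one_of_coprime hcopc hp.one_lt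
  have htriv : ∀ (w : ↥P), ∀ r ∈ R.map π, r • w = w := by
    intro w r hr
    have hwp : w ^ p = 1 := Subtype.ext (hPexp w w.2)
    have hw : w = (w ^ m) ^ Nat.card (R.map π) := by
      rw [← pow_mul, mul_comm, pow_eq_pow_mod _ hwp, hm, pow_one]
    rw [hw]
    exact hfro (w ^ m) r hr
  have hRU : ⁅U, R⁆ ≤ V := by
    rw [Subgroup.commutator_comm, Subgroup.commutator_le]
    intro r hr u hu
    have h1 := htriv ⟨π u, by rw [hP]; exact Subgroup.mem_map_of_mem π hu⟩ (π r)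
      (Subgroup.mem_map_of_mem π hr)
    have h2 := congrArg Subtype.val h1
    rw [hsmul] at h2
    rw [← hπk, commutatorElement_def]
    simp only [map_mul, map_inv]
    rw [h2, mul_inv_cancel]
  have hCn : (centMod U V).Normal := centMod_normal U V hUn
  have hRC : R ≤ centMod U V := (le_centMod_iff hVn).mpr hRU
  have hCQ : ¬ centMod U V ≤ Cfsg.pCore p X := by
    intro hle
    apply hRne
    rw [eq_bot_iff]
    intro x hx
    exact hdisj.le_bot (Subgroup.mem_inf.mpr ⟨hRQ₁ hx, by rw [hQdef]; exact hle (hRC hx)⟩)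
  have hfin := commutator_top_le_of_coatom T hT hUV (by rw [← hQdef]; exact hUQ) (centMod U V)
    hCn ((le_centMod_iff hVn).mp le_rfl) hCQ
  exact hnot ((Subgroup.commutator_mono le_rfl le_top).trans hfin)

end KHH

end Cfsg.Agent.Lib.Helper49
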