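import Mathlib
import Cfsg.Agent.Lib.Helper49.KStab3
import Cfsg.Agent.Lib.Helper51.QdNorm
import Cfsg.Agent.Lib.Helper33.Sect9

/-!
# K-infinity in `Qd(p)`-free groups

`kInf_normal_of_qd_free`: in a `Qd(p)`-free finite group `G` (`p` odd) with
`C_G(O_p(G)) ≤ O_p(G)`, both K-infinity subgroups of a Sylow `p`-subgroup are normal.
`kInf_controls_of_qd_free`: hence they control strong fusion in `Qd(p)`-free groups.
-/

set_option autoImplicit false

namespace Cfsg.Agent.Lib.Helper49

open Subgroup Cfsg Cfsg.Agent.Lib.Helper33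

universe u

section KStab4

variable {G : Type u} [Group G] [Finite G] {p : ℕ} [Fact p.Prime]

theorem kInf_normal_of_qd_free (hp : p ≠ 2) (hfree : ¬ Cfsg.Involves ↥(Cfsg.qd p) G)
    (hc : centralizer ((Cfsg.pCore p G : Subgroup G) : Set G) ≤ Cfsg.pCore p G)
    (S : Sylow p G) :
    (inducedFunctor kInfLower (S : Subgroup G)).Normal ∧
      (inducedFunctor kInfUpper (S : Subgroup G)).Normal := by
  refine kInf_normal_of_stable hc
    (Cfsg.Agent.Lib.Helper51.isNormalizerPStable_of_qd_free hp hfree) ?_ ?_ S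
  · intro N _
    exact Cfsg.Agent.Lib.Helper51.isNormalizerPStable_of_qd_free hp
      (fun h => hfree (Cfsg.Agent.Lib.Helper34.involves_of_quotient N h))
  · intro K R _
    exact Cfsg.Agent.Lib.Helper51.isNormalizerPStable_of_qd_free hp
      (fun h => hfree (Cfsg.Agent.Lib.Helper34.involves_of_subgroup K
        (Cfsg.Agent.Lib.Helper34.involves_of_quotient (R.subgroupOf K) h)))

theorem kInfLower_controls_of_qd_free (hp : p ≠ 2) (hfree : ¬ Cfsg.Involves ↥(Cfsg.qd p) G)
    (S : Sylow p G) :
    ControlsStrongFusion p (inducedFunctor kInfLower (S : Subgroup G)) := by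
  have hW := isCharPFunctor_kInfLower.{u} p
  exact controlsStrongFusion_of_famCtl hW
    (famCtl_sections_of_normal hW (fun K R _ hc T =>
      (kInf_normal_of_qd_free hp (fun h => hfree (Cfsg.Agent.Lib.Helper34.involves_of_subgroup K
        (Cfsg.Agent.Lib.Helper34.involves_of_quotient (R.subgroupOf K) h))) hc T).1)
      G (SubQ.self G)) S

theorem kInfUpper_controls_of_qd_free (hp : p ≠ 2) (hfree : ¬ Cfsg.Involves ↥(Cfsg.qd p) G)
    (S : Sylow p G) :
    ControlsStrongFusion p (inducedFunctor kInfUpper (S : Subgroup G)) := by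
  have hW := isCharPFunctor_kInfUpper.{u} p
  exact controlsStrongFusion_of_famCtl hW
    (famCtl_sections_of_normal hW (fun K R _ hc T =>
      (kInf_normal_of_qd_free hp (fun h => hfree (Cfsg.Agent.Lib.Helper34.involves_of_subgroup K
        (Cfsg.Agent.Lib.Helper34.involves_of_quotient (R.subgroupOf K) h))) hc T).2)
      G (SubQ.self G)) S

end KStab4

end Cfsg.Agent.Lib.Helper49
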