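import Mathlib
import Cfsg.Agent.Lib.Helper49.KStab4
import Cfsg.Agent.Lib.Helper51.QdFusion
import Cfsg.Agent.Lib.Helper51.ZJFunctor

/-!
# The lower K-infinity subgroup does not control strong fusion in `Qd(p)`

A `p`-subgroup of `Qd(p) ≤ SL₃(p)` has order dividing `p³`, hence class at most two; the lower
K-infinity subgroup of a group of class at most two is the whole group; and a Sylow subgroup
whose normalizer controls strong fusion makes `Z(J)` control strong fusion, contradicting
`Cfsg.Agent.Lib.Helper51.not_controlsStrongFusion_zj_of_equiv_qd`.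
-/

set_option autoImplicit false
open scoped commutatorElement

namespace Cfsg.Agent.Lib.Helper49

open Subgroup Cfsg Cfsg.Agent.Lib.Helper33

universe u

section KQd

variable {p : ℕ} [Fact p.Prime]

/-- Groups of order dividing `p²` are commutative. -/
theorem comm_of_card_dvd_sq {X : Type*} [Group X] [Finite X] (h : Nat.card X ∣ p ^ 2) :
    ∀ a b : X, a * b = b * a := by
  have hp : p.Prime := Fact.out
  obtain ⟨k, hk, hc⟩ := (Nat.dvd_prime_pow hp).1 h
  interval_cases k
  · have hs : Subsingleton X := (Nat.card_eq_one_iff_unique.1 (by simpa using hc)).1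
    intro a b
    rw [Subsingleton.elim a b]
  · have hc' : Nat.card X = p := by simpa using hc
    have hcy : IsCyclic X := isCyclic_of_prime_card hc'
    intro a b
    let _ := IsCyclic.commGroup (α := X)
    exact mul_comm a b
  · have hmc := IsPGroup.isMulCommutative_of_card_eq_prime_sq hc
    intro a b
    exact hmc.is_comm.comm a b

/-- In a group of order dividing `p³` every commutator is central. -/
theorem commutator_mem_center_of_card_dvd_cube {X : Type*} [Group X] [Finite X]
    (h : Nat.card X ∣ p ^ 3) (a b : X) : ⁅a, b⁆ ∈ center X := by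
  have hp : p.Prime := Fact.out
  by_cases hX : Subsingleton X
  · rw [Subsingleton.elim ⁅a, b⁆ 1]
    exact one_mem _
  · rw [not_subsingleton_iff_nontrivial] at hX
    obtain ⟨k, hk, hc⟩ := (Nat.dvd_prime_pow hp).1 h
    have hpg : IsPGroup p X := IsPGroup.of_card hc
    have hZ : Nontrivial (center X) := hpg.center_nontrivial
    have h1 : Nat.card (X ⧸ center X) * Nat.card (center X) = Nat.card X :=
      (Subgroup.card_eq_card_quotient_mul_card_subgroup _).symm
    obtain ⟨j, hj⟩ := IsPGroup.iff_card.1 (hpg.to_subgroup (center X))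
    obtain ⟨i, hi⟩ := IsPGroup.iff_card.1 (hpg.to_quotient (center X))
    have hj1 : j ≠ 0 := by
      rintro rfl
      rw [pow_zero] at hj
      have := Finite.one_lt_card_iff_nontrivial.2 hZ
      omega
    rw [hi, hj, hc, ← pow_add] at h1
    have h2 := Nat.pow_right_injective hp.two_le h1
    have h3 : Nat.card (X ⧸ center X) ∣ p ^ 2 := by
      rw [hi]
      exact pow_dvd_pow p (by omega)
    have h4 := comm_of_card_dvd_sq h3 (QuotientGroup.mk a) (QuotientGroup.mk b)
    have h5 : ((⁅a, b⁆ : X) : X ⧸ center X) = 1 := by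
      have h6 : ((⁅a, b⁆ : X) : X ⧸ center X) =
          ⁅(QuotientGroup.mk a : X ⧸ center X), QuotientGroup.mk b⁆ :=
        map_commutatorElement (QuotientGroup.mk' (center X)) a b
      rw [h6]
      exact commutatorElement_eq_one_iff_mul_comm.2 h4
    exact (QuotientGroup.eq_one_iff _).1 h5

/-- The lower K-infinity subgroup of a group of class at most two is the whole group. -/
theorem kInfLower_eq_top_of_class_two (X : Type u) [Group X]
    (h : ∀ a b : X, ⁅a, b⁆ ∈ center X) : kInfLower X = ⊤ := by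
  have h1 : (⊤ : Subgroup X) ∈ kLowerStarFamily (⊤ : Subgroup X) := by
    refine ⟨?_, Subgroup.le_normalizer, ?_⟩
    · show ⁅(⊤ : Subgroup X), ⊤⁆ ≤ centralizer ((⊤ : Subgroup X) : Set X)
      rw [Subgroup.commutator_le]
      intro a _ b _
      rw [coe_top, centralizer_univ]
      exact h a b
    · intro A _ _ _ _ _
      rw [Subgroup.commutator_le]
      intro a _ b _
      refine ⟨mem_top _, ?_⟩
      rw [coe_top, centralizer_univ]
      exact h a b
  rw [eq_top_iff]
  calc (⊤ : Subgroup X) ≤ sSup (kLowerStarFamily (⊤ : Subgroup X)) := le_sSup h1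
    _ = kSeqEven X 0 := rfl
    _ ≤ kInfLower X := le_iSup (kSeqEven X) 0

/-- A `p`-subgroup of a group isomorphic to `Qd(p)` has order dividing `p³`. -/
theorem card_pgroup_qd_dvd {Q : Type u} [Group Q] (e : Q ≃* ↥(Cfsg.qd p)) (T : Subgroup Q)
    (hT : IsPGroup p T) : Nat.card T ∣ p ^ 3 := by
  have hp : p.Prime := Fact.out
  have hfin : Finite Q := Finite.of_equiv _ e.symm.toEquiv
  let f : ↥T →* GL (Fin 3) (ZMod p) :=
    (Matrix.SpecialLinearGroup.toGL).comp ((Cfsg.qd p).subtype.comp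
      (e.toMonoidHom.comp T.subtype))
  have hf : Function.Injective f := by
    intro x y hxy
    have h1 : ((e (x : Q) : ↥(Cfsg.qd p)) : Matrix.SpecialLinearGroup (Fin 3) (ZMod p)) =
        ((e (y : Q) : ↥(Cfsg.qd p)) : Matrix.SpecialLinearGroup (Fin 3) (ZMod p)) := by
      apply Subtype.ext
      have h2 := congrArg (fun g : GL (Fin 3) (ZMod p) => (g : Matrix (Fin 3) (Fin 3) (ZMod p))) hxy
      exact h2
    exact Subtype.ext (e.injective (Subtype.ext h1))
  have h1 : Nat.card T ∣ Nat.card (GL (Fin 3) (ZMod p)) := Subgroup.card_dvd_of_injective f hf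
  rw [Matrix.card_GL_field, ZMod.card, Fin.prod_univ_three] at h1
  obtain ⟨k, hk⟩ := IsPGroup.iff_card.1 hT
  rw [hk] at h1 ⊢
  apply pow_dvd_pow
  by_contra hk3
  have h4 : p ^ 4 ∣ p ^ k := pow_dvd_pow p (by omega)
  have h5 := h4.trans h1
  have hp2 : 2 ≤ p := hp.two_le
  have e1 : p ^ 3 - p ^ ((1 : Fin 3) : ℕ) = p * (p ^ 2 - 1) := by
    rw [Nat.mul_sub]
    show p ^ 3 - p ^ 1 = p * p ^ 2 - p * 1
    ring_nf
  have e2 : p ^ 3 - p ^ ((2 : Fin 3) : ℕ) = p ^ 2 * (p - 1) := by
    rw [Nat.mul_sub]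
    show p ^ 3 - p ^ 2 = p ^ 2 * p - p ^ 2 * 1
    ring_nf
  have e0 : p ^ 3 - p ^ ((0 : Fin 3) : ℕ) = p ^ 3 - 1 := by
    show p ^ 3 - p ^ 0 = p ^ 3 - 1
    rw [pow_zero]
  rw [e0, e1, e2] at h5
  have e3 : (p ^ 3 - 1) * (p * (p ^ 2 - 1)) * (p ^ 2 * (p - 1)) =
      p ^ 3 * ((p ^ 3 - 1) * (p ^ 2 - 1) * (p - 1)) := by ring
  rw [e3, show p ^ 4 = p ^ 3 * p by ring] at h5
  have h6 : p ∣ (p ^ 3 - 1) * (p ^ 2 - 1) * (p - 1) :=
    Nat.dvd_of_mul_dvd_mul_left (pow_pos hp.pos 3) h5
  have hnd : ∀ m : ℕ, 1 ≤ m → p ∣ m → ¬ p ∣ m - 1 := by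
    intro m hm h7 h8
    have h9 : p ∣ m - (m - 1) := Nat.dvd_sub h7 h8
    have h10 : m - (m - 1) = 1 := by omega
    rw [h10] at h9
    exact hp.one_lt.ne' (Nat.dvd_one.1 h9)
  rcases (Nat.Prime.dvd_mul hp).1 h6 with h7 | h7
  · rcases (Nat.Prime.dvd_mul hp).1 h7 with h8 | h8
    · exact hnd (p ^ 3) (Nat.one_le_pow _ _ hp.pos) (dvd_pow_self p (by norm_num)) h8
    · exact hnd (p ^ 2) (Nat.one_le_pow _ _ hp.pos) (dvd_pow_self p (by norm_num)) h8
  · exact hnd p hp.pos dvd_rfl h7

/-- In a group isomorphic to `Qd(p)`, the lower K-infinity subgroup of a Sylow `p`-subgroup is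
the Sylow subgroup itself. -/
theorem inducedFunctor_kInfLower_qd {Q : Type u} [Group Q] (e : Q ≃* ↥(Cfsg.qd p))
    (T : Sylow p Q) : inducedFunctor kInfLower (T : Subgroup Q) = (T : Subgroup Q) := by
  have hfin : Finite Q := Finite.of_equiv _ e.symm.toEquiv
  have h1 := card_pgroup_qd_dvd e (T : Subgroup Q) T.isPGroup'
  have h2 : kInfLower ↥(T : Subgroup Q) = ⊤ :=
    kInfLower_eq_top_of_class_two _ (fun a b => commutator_mem_center_of_card_dvd_cube h1 a b)
  show (kInfLower ↥(T : Subgroup Q)).map (T : Subgroup Q).subtype = (T : Subgroup Q)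
  rw [h2, ← MonoidHom.range_eq_map, Subgroup.range_subtype]

/-- The lower K-infinity subgroup does not control strong fusion in a group isomorphic to
`Qd(p)`. -/
theorem not_controlsStrongFusion_kInfLower_of_equiv_qd {Q : Type u} [Group Q]
    (e : Q ≃* ↥(Cfsg.qd p)) (T : Sylow p Q) :
    ¬ ControlsStrongFusion p (inducedFunctor kInfLower (T : Subgroup Q)) := by
  have hfin : Finite Q := Finite.of_equiv _ e.symm.toEquiv
  rw [inducedFunctor_kInfLower_qd e T]
  intro hctl
  apply Cfsg.Agent.Lib.Helper51.not_controlsStrongFusion_zj_of_equiv_qd e T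
  obtain ⟨T', hTT', h⟩ := hctl
  have hN : Subgroup.normalizer ((T : Subgroup Q) : Set Q) ≤
      Subgroup.normalizer ((Cfsg.centerThompsonAOf (T : Subgroup Q) : Subgroup Q) : Set Q) := by
    have h3 := cf_normalizer_le (isConjugacyFunctor_induced
      (Cfsg.Agent.Lib.Helper51.isCharPFunctor_zjA.{u} p) Q) T.isPGroup'
    rw [Cfsg.Agent.Lib.Helper51.inducedFunctor_zjA] at h3
    exact h3
  have hle : Cfsg.centerThompsonAOf (T : Subgroup Q) ≤ (T : Subgroup Q) := by
    have h3 := cf_le (isConjugacyFunctor_induced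
      (Cfsg.Agent.Lib.Helper51.isCharPFunctor_zjA.{u} p) Q) T.isPGroup'
    rw [Cfsg.Agent.Lib.Helper51.inducedFunctor_zjA] at h3
    exact h3
  refine ⟨T', hle.trans hTT', fun A hA => ⟨(h A hA).1, fun g hg => ?_⟩⟩
  obtain ⟨x, hxN, hx⟩ := (h A hA).2 g hg
  exact ⟨x, hN hxN, hx⟩

end KQd

end Cfsg.Agent.Lib.Helper49
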