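import Mathlib
import Cfsg.Agent.Lib.Helper47.Syl

set_option autoImplicit false

namespace Cfsg.Agent.Lib.Helper49

/-- For `K` subnormal in a finite group and `T` a Sylow `p`-subgroup, `T ⊓ K` has the order of a
Sylow `p`-subgroup of `K`. -/
theorem card_sylow_inf_subnormal {G : Type*} [Group G] [Finite G] {p : ℕ} [Fact p.Prime]
    (T : Sylow p G) (K : Subgroup G) (hK : K.IsSubnormal) :
    Nat.card ↥((T : Subgroup G) ⊓ K) = p ^ (Nat.card K).factorization p := by
  induction hK with
  | top =>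
    rw [inf_top_eq, T.card_eq_multiplicity, Subgroup.card_top]
  | step H K hle hKsub hN ih =>
    have h1 : Nat.card ↥(((T : Subgroup G) ⊓ K).subgroupOf K) =
        p ^ (Nat.card ↥K).factorization p := by
      rw [← ih]
      exact Nat.card_congr (Subgroup.subgroupOfEquivOfLe inf_le_right).toEquiv
    obtain ⟨Q', hQ'⟩ := Cfsg.Agent.Lib.Helper47.exists_sylow_inf_normal
      (Sylow.ofCard _ h1) (H.subgroupOf K)
    have h2 : Nat.card ↥(Q' : Subgroup ↥(H.subgroupOf K)) =
        p ^ (Nat.card ↥(H.subgroupOf K)).factorization p := Q'.card_eq_multiplicity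
    have h3 : Nat.card ↥(H.subgroupOf K) = Nat.card ↥H :=
      Nat.card_congr (Subgroup.subgroupOfEquivOfLe hle).toEquiv
    rw [h3, hQ', Sylow.coe_ofCard] at h2
    rw [← h2]
    have h4 : ((T : Subgroup G) ⊓ K).subgroupOf K ⊓ H.subgroupOf K =
        ((T : Subgroup G) ⊓ H).subgroupOf K := by
      ext x
      simp only [Subgroup.mem_inf, Subgroup.mem_subgroupOf]
      constructor
      · rintro ⟨⟨h5, -⟩, h6⟩
        exact ⟨h5, h6⟩
      · rintro ⟨h5, h6⟩
        exact ⟨⟨h5, x.2⟩, h6⟩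
    have h5 : Nat.card ↥((((T : Subgroup G) ⊓ K).subgroupOf K ⊓ H.subgroupOf K).subgroupOf
        (H.subgroupOf K)) = Nat.card ↥(((T : Subgroup G) ⊓ K).subgroupOf K ⊓ H.subgroupOf K) :=
      Nat.card_congr (Subgroup.subgroupOfEquivOfLe inf_le_right).toEquiv
    rw [h5, h4]
    exact (Nat.card_congr (Subgroup.subgroupOfEquivOfLe (inf_le_right.trans hle)).toEquiv).symm

/-- For `K` subnormal in a finite group and `T` a Sylow `p`-subgroup, `T ⊓ K` is a Sylow
`p`-subgroup of `K`. -/
theorem exists_sylow_inf_subnormal {G : Type*} [Group G] [Finite G] {p : ℕ} [Fact p.Prime]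
    (T : Sylow p G) (K : Subgroup G) (hK : K.IsSubnormal) :
    ∃ Q : Sylow p ↥K, (Q : Subgroup ↥K) = (T : Subgroup G).subgroupOf K := by
  have h1 : Nat.card ↥((T : Subgroup G).subgroupOf K) = p ^ (Nat.card ↥K).factorization p := by
    rw [← card_sylow_inf_subnormal T K hK, ← Subgroup.inf_subgroupOf_right]
    exact Nat.card_congr (Subgroup.subgroupOfEquivOfLe inf_le_right).toEquiv
  exact ⟨Sylow.ofCard _ h1, Sylow.coe_ofCard _ _⟩

end Cfsg.Agent.Lib.Helper49
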