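import Mathlib
import Cfsg.Agent.Lib.Helper49.PConstr
import Cfsg.Agent.Lib.Helper49.SylSub
import Cfsg.Agent.Lib.Helper63.HallHigman

/-!
The Frattini argument for `O_{p',p}(G)` (helper49).
-/

set_option autoImplicit false

namespace Cfsg.Agent.Lib.Helper49

open Cfsg

/-- `O_{p',p}(G)` is normal. -/
theorem pPrimePCore_normal (p : ℕ) (G : Type*) [Group G] : (Cfsg.pPrimePCore p G).Normal := by
  have hOn : (Cfsg.pPrimeCore p G).Normal := Cfsg.Agent.Lib.Helper22.pPrimeCore_normal' p G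
  unfold Cfsg.pPrimePCore
  exact (Cfsg.pCore_normal p _).comap _

/-- `O_{p'}(G) ≤ O_{p',p}(G)`. -/
theorem pPrimeCore_le_pPrimePCore (p : ℕ) (G : Type*) [Group G] :
    Cfsg.pPrimeCore p G ≤ Cfsg.pPrimePCore p G := by
  have hOn : (Cfsg.pPrimeCore p G).Normal := Cfsg.Agent.Lib.Helper22.pPrimeCore_normal' p G
  intro x hx
  show (QuotientGroup.mk' (Cfsg.pPrimeCore p G)) x ∈ Cfsg.pCore p (G ⧸ Cfsg.pPrimeCore p G)
  have h1 : (QuotientGroup.mk' (Cfsg.pPrimeCore p G)) x = 1 :=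
    (QuotientGroup.eq_one_iff x).mpr hx
  rw [h1]
  exact Subgroup.one_mem _

/-- For a Sylow `p`-subgroup `S` of `G`, `S ∩ O_{p',p}(G)` is (the image of) a Sylow
`p`-subgroup of `O_{p',p}(G)`. -/
theorem exists_sylow_pPrimePCore {G : Type*} [Group G] [Finite G] {p : ℕ} [Fact p.Prime]
    (S : Sylow p G) :
    ∃ Q : Sylow p ↥(Cfsg.pPrimePCore p G),
      (Q : Subgroup ↥(Cfsg.pPrimePCore p G)).map (Cfsg.pPrimePCore p G).subtype =
        (S : Subgroup G) ⊓ Cfsg.pPrimePCore p G := by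
  have hRn := pPrimePCore_normal p G
  obtain ⟨Q, hQ⟩ := exists_sylow_inf_subnormal S (Cfsg.pPrimePCore p G) hRn.isSubnormal
  exact ⟨Q, by rw [hQ, Subgroup.subgroupOf_map_subtype]⟩

/-- `O_{p',p}(G) = (S ∩ O_{p',p}(G)) O_{p'}(G)` for a Sylow `p`-subgroup `S`. -/
theorem pPrimePCore_eq_sup {G : Type*} [Group G] [Finite G] {p : ℕ} [Fact p.Prime]
    (S : Sylow p G) :
    Cfsg.pPrimePCore p G = ((S : Subgroup G) ⊓ Cfsg.pPrimePCore p G) ⊔ Cfsg.pPrimeCore p G := by
  have hOn : (Cfsg.pPrimeCore p G).Normal := Cfsg.Agent.Lib.Helper22.pPrimeCore_normal' p G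
  have hRn := pPrimePCore_normal p G
  have hOR := pPrimeCore_le_pPrimePCore p G
  apply le_antisymm _ (sup_le inf_le_right hOR)
  rw [← Subgroup.relIndex_eq_one]
  obtain ⟨Q, hQ⟩ := exists_sylow_inf_subnormal S (Cfsg.pPrimePCore p G) hRn.isSubnormal
  have h1 : ¬ p ∣ ((S : Subgroup G) ⊓ Cfsg.pPrimePCore p G).relIndex (Cfsg.pPrimePCore p G) := by
    have h2 : ((S : Subgroup G) ⊓ Cfsg.pPrimePCore p G).relIndex (Cfsg.pPrimePCore p G) =
        (Q : Subgroup ↥(Cfsg.pPrimePCore p G)).index := by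
      rw [hQ, Subgroup.relIndex, Subgroup.inf_subgroupOf_right]
    rw [h2]
    exact Q.not_dvd_index
  have h3 : ∃ k : ℕ, (Cfsg.pPrimeCore p G).relIndex (Cfsg.pPrimePCore p G) = p ^ k := by
    have h4 : Cfsg.pPrimeCore p G = (⊥ : Subgroup (G ⧸ Cfsg.pPrimeCore p G)).comap
        (QuotientGroup.mk' (Cfsg.pPrimeCore p G)) := by
      rw [MonoidHom.comap_bot, QuotientGroup.ker_mk']
    have h5 : (Cfsg.pPrimePCore p G).map (QuotientGroup.mk' (Cfsg.pPrimeCore p G)) =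
        Cfsg.pCore p (G ⧸ Cfsg.pPrimeCore p G) := by
      unfold Cfsg.pPrimePCore
      exact Subgroup.map_comap_eq_self_of_surjective (QuotientGroup.mk'_surjective _) _
    have h6 : (Cfsg.pPrimeCore p G).relIndex (Cfsg.pPrimePCore p G) =
        Nat.card ↥(Cfsg.pCore p (G ⧸ Cfsg.pPrimeCore p G)) := by
      conv_lhs => rw [h4]
      rw [Subgroup.relIndex_comap, h5, Subgroup.relIndex_bot_left]
    rw [h6]
    exact IsPGroup.iff_card.mp (pCore_isPGroup p _)
  obtain ⟨k, hk⟩ := h3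
  have h7 : (((S : Subgroup G) ⊓ Cfsg.pPrimePCore p G) ⊔ Cfsg.pPrimeCore p G).relIndex
      (Cfsg.pPrimePCore p G) ∣ p ^ k := by
    rw [← hk]
    exact Subgroup.relIndex_dvd_of_le_left _ le_sup_right
  have h8 : (((S : Subgroup G) ⊓ Cfsg.pPrimePCore p G) ⊔ Cfsg.pPrimeCore p G).relIndex
      (Cfsg.pPrimePCore p G) ∣
      ((S : Subgroup G) ⊓ Cfsg.pPrimePCore p G).relIndex (Cfsg.pPrimePCore p G) :=
    Subgroup.relIndex_dvd_of_le_left _ le_sup_left
  obtain ⟨j, -, hj⟩ := (Nat.dvd_prime_pow (Fact.out : p.Prime)).mp h7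
  rcases Nat.eq_zero_or_pos j with rfl | hpos
  · rw [hj, pow_zero]
  · exfalso
    apply h1
    rw [hj] at h8
    exact dvd_trans (dvd_pow_self p hpos.ne') h8

/-- Frattini: `G = N_G(S ∩ O_{p',p}(G)) O_{p'}(G)` for a Sylow `p`-subgroup `S`. -/
theorem normalizer_inf_pPrimePCore_sup {G : Type*} [Group G] [Finite G] {p : ℕ} [Fact p.Prime]
    (S : Sylow p G) :
    Subgroup.normalizer (((S : Subgroup G) ⊓ Cfsg.pPrimePCore p G : Subgroup G) : Set G) ⊔
      Cfsg.pPrimeCore p G = ⊤ := by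
  have hRn := pPrimePCore_normal p G
  obtain ⟨Q, hQ⟩ := exists_sylow_pPrimePCore S
  have h1 := Sylow.normalizer_sup_eq_top Q
  rw [hQ] at h1
  have h2 : (S : Subgroup G) ⊓ Cfsg.pPrimePCore p G ≤
      Subgroup.normalizer (((S : Subgroup G) ⊓ Cfsg.pPrimePCore p G : Subgroup G) : Set G) :=
    Subgroup.le_normalizer
  have h3 : Subgroup.normalizer (((S : Subgroup G) ⊓ Cfsg.pPrimePCore p G : Subgroup G) : Set G) ⊔
      (((S : Subgroup G) ⊓ Cfsg.pPrimePCore p G) ⊔ Cfsg.pPrimeCore p G) = ⊤ := by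
    rw [← pPrimePCore_eq_sup S]; exact h1
  rw [← sup_assoc, sup_eq_left.mpr h2] at h3
  exact h3

/-- A Sylow `p`-subgroup normalizes its intersection with `O_{p',p}(G)`. -/
theorem sylow_le_normalizer_inf_pPrimePCore {G : Type*} [Group G] {p : ℕ}
    (S : Sylow p G) :
    (S : Subgroup G) ≤
      Subgroup.normalizer (((S : Subgroup G) ⊓ Cfsg.pPrimePCore p G : Subgroup G) : Set G) := by
  have hRn := pPrimePCore_normal p G
  intro s hs
  rw [Subgroup.mem_normalizer_iff]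
  intro x
  rw [Subgroup.mem_inf, Subgroup.mem_inf]
  constructor
  · rintro ⟨h1, h2⟩
    exact ⟨Subgroup.mul_mem _ (Subgroup.mul_mem _ hs h1) (Subgroup.inv_mem _ hs),
      hRn.conj_mem x h2 s⟩
  · rintro ⟨h1, h2⟩
    refine ⟨?_, ?_⟩
    · have h3 : x = s⁻¹ * (s * x * s⁻¹) * s := by group
      rw [h3]
      exact Subgroup.mul_mem _ (Subgroup.mul_mem _ (Subgroup.inv_mem _ hs) h1) hs
    · have h3 : x = s⁻¹ * (s * x * s⁻¹) * s⁻¹⁻¹ := by group
      rw [h3]
      exact hRn.conj_mem _ h2 s⁻¹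

/-- A finite group with a normal Sylow `p`-subgroup is `p`-soluble. -/
theorem isPSolvable_of_normal_sylow {X : Type*} [Group X] [Finite X] {p : ℕ} [Fact p.Prime]
    (T : Sylow p X) (hT : (T : Subgroup X).Normal) : Cfsg.IsPSolvable p X := by
  refine ⟨2, ![⊥, (T : Subgroup X), ⊤], rfl, rfl, ?_, ?_, ?_⟩
  · rw [Fin.monotone_iff_le_succ]
    intro i
    fin_cases i
    · exact bot_le
    · exact le_top
  · intro i
    fin_cases i
    · exact Subgroup.normal_bot
    · exact hT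
    · exact Subgroup.normal_top
  · intro i
    fin_cases i
    · left
      obtain ⟨m, hm⟩ := IsPGroup.iff_card.mp T.isPGroup'
      refine ⟨m, ?_⟩
      show (⊥ : Subgroup X).relIndex (T : Subgroup X) = p ^ m
      rw [Subgroup.relIndex_bot_left, hm]
    · right
      show ((T : Subgroup X).relIndex ⊤).Coprime p
      rw [Subgroup.relIndex_top_right, Nat.coprime_comm]
      exact (Nat.Prime.coprime_iff_not_dvd (Fact.out : p.Prime)).mpr T.not_dvd_index

/-- A finite group with a normal Sylow `p`-subgroup and trivial `p'`-core has characteristic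
`p`. -/
theorem charp_of_normal_sylow {X : Type*} [Group X] [Finite X] {p : ℕ} [Fact p.Prime]
    (hO : Cfsg.pPrimeCore p X = ⊥) (T : Sylow p X) (hT : (T : Subgroup X).Normal) :
    Subgroup.centralizer (Cfsg.pCore p X : Set X) ≤ Cfsg.pCore p X :=
  Cfsg.Agent.Lib.Helper63.centralizer_pCore_le hO
    (Cfsg.Agent.Lib.Helper63.exists_plengthLE_of_isPSolvable (isPSolvable_of_normal_sylow T hT))

end Cfsg.Agent.Lib.Helper49
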